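import Mathlib
import Groth.Prelude.Def_CAlg
import Groth.Agent.Lib.Helper4.CM

/-!
# Depth, dimension and Cohen–Macaulayness of modules along surjective ring maps (helper14)

No Noetherian or finiteness hypotheses.
-/

set_option autoImplicit false
set_option linter.style.haveILetI false
set_option linter.unusedSectionVars false
universe u v

open IsLocalRing RingTheory.Sequence

namespace Groth.Agent.Lib.Helper14.CMMod

section surj

variable {R R' : Type u} [CommRing R] [CommRing R'] [IsLocalRing R] [IsLocalRing R']
  [Algebra R R'] (hs : Function.Surjective (algebraMap R R'))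
  (M : Type v) [AddCommGroup M] [Module R M] [Module R' M] [IsScalarTower R R' M]

include hs

theorem mem_maximalIdeal_of_surjective {r : R} :
    algebraMap R R' r ∈ maximalIdeal R' ↔ r ∈ maximalIdeal R := by
  haveI : IsLocalHom (algebraMap R R') := IsLocalHom.of_surjective _ hs
  rw [mem_maximalIdeal, mem_maximalIdeal, mem_nonunits_iff, mem_nonunits_iff,
    isUnit_map_iff]

theorem mem_maximalIdeal_smul_top_iff (x : M) :
    x ∈ maximalIdeal R • (⊤ : Submodule R M) ↔ x ∈ maximalIdeal R' • (⊤ : Submodule R' M) := by
  constructor
  · intro hx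
    refine Submodule.smul_induction_on hx ?_ ?_
    · intro r hr m _
      rw [← algebraMap_smul R' r m]
      exact Submodule.smul_mem_smul ((mem_maximalIdeal_of_surjective hs).2 hr) Submodule.mem_top
    · intro a b ha hb
      exact add_mem ha hb
  · intro hx
    refine Submodule.smul_induction_on hx ?_ ?_
    · intro r' hr' m _
      obtain ⟨r, rfl⟩ := hs r'
      rw [algebraMap_smul R' r m]
      exact Submodule.smul_mem_smul ((mem_maximalIdeal_of_surjective hs).1 hr') Submodule.mem_top
    · intro a b ha hb
      exact add_mem ha hb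

theorem depth_eq_of_surjective : LocCoh.depth R M = LocCoh.depth R' M := by
  classical
  unfold LocCoh.depth LocCoh.idealDepth
  have htop : (maximalIdeal R • (⊤ : Submodule R M) = ⊤) ↔
      (maximalIdeal R' • (⊤ : Submodule R' M) = ⊤) := by
    rw [Submodule.eq_top_iff', Submodule.eq_top_iff']
    exact forall_congr' fun x => mem_maximalIdeal_smul_top_iff hs M x
  by_cases h : maximalIdeal R • (⊤ : Submodule R M) = ⊤
  · rw [if_pos h, if_pos (htop.1 h)]
  · rw [if_neg h, if_neg (fun h' => h (htop.2 h'))]
    apply le_antisymm
    · refine iSup₂_le fun rs hrs => ?_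
      have h1 : IsWeaklyRegular M (rs.map (algebraMap R R')) :=
        (isWeaklyRegular_map_algebraMap_iff R' M rs).2 hrs.1
      have h2 : ∀ r ∈ rs.map (algebraMap R R'), r ∈ maximalIdeal R' := by
        intro r hr
        obtain ⟨a, ha, rfl⟩ := List.mem_map.1 hr
        exact (mem_maximalIdeal_of_surjective hs).2 (hrs.2 a ha)
      have := le_iSup₂ (f := fun (rs : List R')
        (_ : IsWeaklyRegular M rs ∧ ∀ r ∈ rs, r ∈ maximalIdeal R') => (rs.length : ℕ∞))
        (rs.map (algebraMap R R')) ⟨h1, h2⟩
      simpa using this
    · refine iSup₂_le fun rs' hrs' => ?_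
      obtain ⟨rs, rfl⟩ := List.map_surjective_iff.2 hs rs'
      have h1 : IsWeaklyRegular M rs := (isWeaklyRegular_map_algebraMap_iff R' M rs).1 hrs'.1
      have h2 : ∀ r ∈ rs, r ∈ maximalIdeal R := by
        intro r hr
        exact (mem_maximalIdeal_of_surjective hs).1 (hrs'.2 _ (List.mem_map_of_mem hr))
      have := le_iSup₂ (f := fun (rs : List R)
        (_ : IsWeaklyRegular M rs ∧ ∀ r ∈ rs, r ∈ maximalIdeal R) => (rs.length : ℕ∞))
        rs ⟨h1, h2⟩
      simpa using this

theorem mem_support_comap_iff (p' : PrimeSpectrum R') :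
    PrimeSpectrum.comap (algebraMap R R') p' ∈ Module.support R M ↔
      p' ∈ Module.support R' M := by
  rw [Module.mem_support_iff_exists_annihilator, Module.mem_support_iff_exists_annihilator]
  refine exists_congr fun m => ?_
  constructor
  · intro h r' hr'
    obtain ⟨r, rfl⟩ := hs r'
    have : r ∈ (Submodule.span R {m}).annihilator := by
      rw [Submodule.mem_annihilator_span_singleton] at hr' ⊢
      rw [← algebraMap_smul R' r m]
      exact hr'
    exact h this
  · intro h r hr
    change algebraMap R R' r ∈ p'.asIdeal
    apply h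
    rw [Submodule.mem_annihilator_span_singleton] at hr ⊢
    rw [algebraMap_smul R' r m]
    exact hr

theorem exists_comap_eq_of_mem_support (p : PrimeSpectrum R) (hp : p ∈ Module.support R M) :
    ∃ p' : PrimeSpectrum R', PrimeSpectrum.comap (algebraMap R R') p' = p := by
  have hker : RingHom.ker (algebraMap R R') ≤ p.asIdeal := by
    intro r hr
    rw [Module.mem_support_iff_exists_annihilator] at hp
    obtain ⟨m, hm⟩ := hp
    apply hm
    rw [Submodule.mem_annihilator_span_singleton, ← algebraMap_smul R' r m,
      (RingHom.mem_ker).1 hr, zero_smul]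
  have : p ∈ Set.range (PrimeSpectrum.comap (algebraMap R R')) := by
    rw [range_comap_of_surjective R' (algebraMap R R') hs, PrimeSpectrum.mem_zeroLocus]
    exact hker
  exact this

theorem supportDim_eq_of_surjective : Module.supportDim R M = Module.supportDim R' M := by
  unfold Module.supportDim
  let F : Module.support R' M → Module.support R M := fun p' =>
    ⟨PrimeSpectrum.comap (algebraMap R R') p'.1, (mem_support_comap_iff hs M p'.1).2 p'.2⟩
  have hF : ∀ a b : Module.support R' M, F a ≤ F b ↔ a ≤ b := by
    intro a b
    change (a.1.asIdeal.comap (algebraMap R R')) ≤ (b.1.asIdeal.comap (algebraMap R R')) ↔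
      a.1.asIdeal ≤ b.1.asIdeal
    constructor
    · intro h x hx
      obtain ⟨r, rfl⟩ := hs x
      exact h hx
    · intro h
      exact Ideal.comap_mono h
  have hFs : Function.Surjective F := by
    intro p
    obtain ⟨p', hp'⟩ := exists_comap_eq_of_mem_support hs M p.1 p.2
    refine ⟨⟨p', ?_⟩, Subtype.ext hp'⟩
    rw [← mem_support_comap_iff hs M p', hp']
    exact p.2
  have hFi : Function.Injective F := by
    intro a b hab
    exact le_antisymm ((hF a b).1 hab.le) ((hF b a).1 hab.ge)
  let e : Module.support R' M ≃o Module.support R M :=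
    { toFun := F
      invFun := Function.surjInv hFs
      left_inv := Function.leftInverse_surjInv ⟨hFi, hFs⟩
      right_inv := Function.rightInverse_surjInv hFs
      map_rel_iff' := fun {a b} => hF a b }
  exact (Order.krullDim_eq_of_orderIso e).symm

theorem cm_iff_of_surjective :
    LocCoh.IsCohenMacaulayModule R M ↔ LocCoh.IsCohenMacaulayModule R' M := by
  unfold LocCoh.IsCohenMacaulayModule
  rw [depth_eq_of_surjective hs M, supportDim_eq_of_surjective hs M]

end surj

/-- Cohen–Macaulayness is invariant under semilinear isomorphisms along a surjective ring map. -/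
theorem cm_iff_of_semilinear {R R' : Type u} [CommRing R] [CommRing R'] [IsLocalRing R]
    [IsLocalRing R'] (φ : R →+* R') (hφ : Function.Surjective φ)
    {M M' : Type u} [AddCommGroup M] [Module R M] [AddCommGroup M'] [Module R' M']
    (g : M ≃+ M') (hg : ∀ (r : R) (m : M), g (r • m) = φ r • g m) :
    LocCoh.IsCohenMacaulayModule R M ↔ LocCoh.IsCohenMacaulayModule R' M' := by
  letI : Algebra R R' := φ.toAlgebra
  letI : Module R M' := Module.compHom M' φ
  haveI : IsScalarTower R R' M' := IsScalarTower.of_algebraMap_smul fun r m => rfl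
  let e : M ≃ₗ[R] M' := { g with map_smul' := fun r m => hg r m }
  rw [Groth.Agent.Lib.Helper4.cm_congr e]
  exact cm_iff_of_surjective (R := R) (R' := R') hφ M'

end Groth.Agent.Lib.Helper14.CMMod
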