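import Mathlib
import Groth.Agent.Lib.Helper14.CMMod.Transfer
import Groth.Agent.Lib.Helper4.FlatLocal2
import Groth.Agent.Lib.Helper4.RegCM
import Groth.Agent.Lib.Helper22.DimFlat3

/-!
# Cohen–Macaulayness of a quotient `W / K W`: ascent along a flat map from a regular local ring
(helper14)
-/

set_option autoImplicit false
set_option linter.style.haveILetI false
set_option linter.unusedSectionVars false
universe u

open IsLocalRing TensorProduct

namespace Groth.Agent.Lib.Helper14.CMMod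

/-- `W / K W` is zero or a Cohen–Macaulay module over the local ring `L`. -/
def CMq (L : Type u) [CommRing L] [IsLocalRing L] (W : Type u) [AddCommGroup W] [Module L W]
    (K : Ideal L) : Prop :=
  Subsingleton (W ⧸ K • (⊤ : Submodule L W)) ∨
    LocCoh.IsCohenMacaulayModule L (W ⧸ K • (⊤ : Submodule L W))

theorem mem_map_smul_top_iff' {A R W : Type u} [CommRing A] [CommRing R] [Algebra A R]
    [AddCommGroup W] [Module R W] [Module A W] [IsScalarTower A R W] (𝔭 : Ideal A) (x : W) :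
    x ∈ (𝔭.map (algebraMap A R)) • (⊤ : Submodule R W) ↔ x ∈ 𝔭 • (⊤ : Submodule A W) := by
  have := Ideal.smul_restrictScalars 𝔭 (⊤ : Submodule R W)
  rw [Submodule.restrictScalars_top] at this
  rw [← this]
  rfl

section

variable {L : Type u} [CommRing L] {W : Type u} [AddCommGroup W] [Module L W]

instance isScalarTower_quot (K : Ideal L) :
    IsScalarTower L (L ⧸ K) (W ⧸ K • (⊤ : Submodule L W)) :=
  IsScalarTower.of_algebraMap_smul fun r m => by
    induction m using Submodule.Quotient.induction_on with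
    | H w => rfl

/-- the third isomorphism theorem, in the form needed. -/
noncomputable def quotQuotEquiv (K₁ K₂ : Ideal L) (h12 : K₁ ≤ K₂) :
    ((W ⧸ K₁ • (⊤ : Submodule L W)) ⧸ ((K₂.map (Ideal.Quotient.mk K₁)) •
      (⊤ : Submodule (L ⧸ K₁) (W ⧸ K₁ • (⊤ : Submodule L W))))) ≃ₗ[L]
      (W ⧸ K₂ • (⊤ : Submodule L W)) := by
  have hle : K₁ • (⊤ : Submodule L W) ≤ K₂ • (⊤ : Submodule L W) :=
    Submodule.smul_mono_left h12
  have heq : ((K₂.map (Ideal.Quotient.mk K₁)) •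
      (⊤ : Submodule (L ⧸ K₁) (W ⧸ K₁ • (⊤ : Submodule L W)))).restrictScalars L =
      (K₂ • (⊤ : Submodule L W)).map (K₁ • (⊤ : Submodule L W)).mkQ := by
    ext x
    rw [Submodule.restrictScalars_mem]
    have h1 := mem_map_smul_top_iff' (A := L) (R := L ⧸ K₁)
      (W := W ⧸ K₁ • (⊤ : Submodule L W)) K₂ x
    rw [Ideal.Quotient.algebraMap_eq] at h1
    rw [h1, Submodule.map_smul'', Submodule.map_top, Submodule.range_mkQ]
  exact ((Submodule.Quotient.restrictScalarsEquiv L _).symm.trans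
    (Submodule.quotEquivOfEq _ _ heq)).trans
    (Submodule.quotientQuotientEquivQuotient _ _ hle)

end

section LemmaT

variable {L : Type u} [CommRing L] [IsLocalRing L] {W : Type u} [AddCommGroup W] [Module L W]
  [Module.Finite L W]

/-- **Ascent of Cohen–Macaulayness along a flat map from a regular local ring.** -/
theorem cmq_of_flat_regular (K₁ K₂ : Ideal L) (h12 : K₁ ≤ K₂) [IsNoetherianRing (L ⧸ K₁)]
    [IsLocalRing (L ⧸ K₁)] (A₀ : Type u) [CommRing A₀] [IsRegularLocalRing A₀]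
    [Algebra A₀ (L ⧸ K₁)] [IsLocalHom (algebraMap A₀ (L ⧸ K₁))]
    [Module A₀ (W ⧸ K₁ • (⊤ : Submodule L W))]
    [IsScalarTower A₀ (L ⧸ K₁) (W ⧸ K₁ • (⊤ : Submodule L W))]
    [Module.Flat A₀ (W ⧸ K₁ • (⊤ : Submodule L W))]
    (hK : (maximalIdeal A₀).map (algebraMap A₀ (L ⧸ K₁)) = K₂.map (Ideal.Quotient.mk K₁))
    (h : CMq L W K₂) : CMq L W K₁ := by
  by_cases hnt : Subsingleton (W ⧸ K₁ • (⊤ : Submodule L W))
  · exact Or.inl hnt
  rw [not_subsingleton_iff_nontrivial] at hnt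
  right
  have hsurj : Function.Surjective (algebraMap L (L ⧸ K₁)) := Ideal.Quotient.mk_surjective
  haveI : Module.Finite (L ⧸ K₁) (W ⧸ K₁ • (⊤ : Submodule L W)) :=
    Module.Finite.of_restrictScalars_finite L _ _
  -- the closed fibre over `A₀`
  have hne := Groth.Agent.Lib.Helper4.map_maximalIdeal_smul_top_ne_top (R := A₀) (S := L ⧸ K₁)
    (W ⧸ K₁ • (⊤ : Submodule L W))
  have h1 := Groth.Agent.Lib.Helper4.depth_tensor_eq (R := A₀) (S := L ⧸ K₁) A₀
    (W ⧸ K₁ • (⊤ : Submodule L W))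
  have h2 := Groth.Agent.Lib.Helper22.DimFlat.supportDim_tensor_eq A₀ (L ⧸ K₁) A₀
    (W ⧸ K₁ • (⊤ : Submodule L W))
  rw [hK] at hne h1 h2
  haveI hntU : Nontrivial ((W ⧸ K₁ • (⊤ : Submodule L W)) ⧸ ((K₂.map (Ideal.Quotient.mk K₁)) •
      (⊤ : Submodule (L ⧸ K₁) (W ⧸ K₁ • (⊤ : Submodule L W))))) :=
    Submodule.Quotient.nontrivial_iff.mpr hne
  have e := quotQuotEquiv (W := W) K₁ K₂ h12
  have hcm2 : LocCoh.IsCohenMacaulayModule L (W ⧸ K₂ • (⊤ : Submodule L W)) := by
    rcases h with h | h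
    · exfalso
      haveI := h
      haveI := e.toEquiv.subsingleton
      exact not_subsingleton _ ‹_›
    · exact h
  have hcmU : LocCoh.IsCohenMacaulayModule (L ⧸ K₁)
      ((W ⧸ K₁ • (⊤ : Submodule L W)) ⧸ ((K₂.map (Ideal.Quotient.mk K₁)) •
      (⊤ : Submodule (L ⧸ K₁) (W ⧸ K₁ • (⊤ : Submodule L W))))) := by
    rw [← cm_iff_of_surjective (R := L) (R' := L ⧸ K₁) hsurj,
      Groth.Agent.Lib.Helper4.cm_congr e]
    exact hcm2
  have hA₀ := Groth.Agent.Lib.Helper4.RegCM.isCohenMacaulayModule_self A₀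
  unfold LocCoh.IsCohenMacaulayModule at hcmU hA₀
  have hcmT : LocCoh.IsCohenMacaulayModule (L ⧸ K₁)
      ((W ⧸ K₁ • (⊤ : Submodule L W)) ⊗[A₀] A₀) := by
    unfold LocCoh.IsCohenMacaulayModule
    rw [h1, h2, hcmU, hA₀]
    push_cast
    rfl
  rw [cm_iff_of_surjective (R := L) (R' := L ⧸ K₁) hsurj]
  exact (Groth.Agent.Lib.Helper4.cm_congr
    (TensorProduct.AlgebraTensorModule.rid A₀ (L ⧸ K₁) (W ⧸ K₁ • (⊤ : Submodule L W)))).1 hcmT

end LemmaT

end Groth.Agent.Lib.Helper14.CMMod
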