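import Mathlib
import Groth.Agent.Lib.Helper14.CMMod.LemmaT

/-!
# Codepth of a quotient `W / K W` (helper14)

`CP n R M`: the codepth of `M` is at most `n`, i.e. `dim Supp M ≤ depth M + n`.
-/

set_option autoImplicit false
set_option linter.style.haveILetI false
set_option linter.unusedSectionVars false
universe u

open IsLocalRing TensorProduct RingTheory.Sequence

namespace Groth.Agent.Lib.Helper14.CMMod

/-- the codepth of `M` is at most `n`. -/
def CP (n : ℕ) (R : Type u) [CommRing R] [IsLocalRing R] (M : Type u) [AddCommGroup M]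
    [Module R M] : Prop :=
  Module.supportDim R M ≤ ((LocCoh.depth R M : ℕ∞) : WithBot ℕ∞) + (n : WithBot ℕ∞)

/-- the codepth of `W / K W` is at most `n`. -/
def CPq (n : ℕ) (L : Type u) [CommRing L] [IsLocalRing L] (W : Type u) [AddCommGroup W]
    [Module L W] (K : Ideal L) : Prop :=
  CP n L (W ⧸ K • (⊤ : Submodule L W))

theorem cp_of_subsingleton (n : ℕ) (R : Type u) [CommRing R] [IsLocalRing R] (M : Type u)
    [AddCommGroup M] [Module R M] [Subsingleton M] : CP n R M := by
  unfold CP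
  rw [Module.supportDim_eq_bot_of_subsingleton]
  exact bot_le

theorem cp_congr (n : ℕ) {R : Type u} [CommRing R] [IsLocalRing R] {M M' : Type u}
    [AddCommGroup M] [Module R M] [AddCommGroup M'] [Module R M'] (e : M ≃ₗ[R] M') :
    CP n R M ↔ CP n R M' := by
  unfold CP
  rw [LocCoh.depth, LocCoh.depth, Module.supportDim_eq_of_equiv e,
    Groth.Agent.Lib.Helper4.idealDepth_congr _ e]

theorem cp_iff_of_surjective (n : ℕ) {R R' : Type u} [CommRing R] [CommRing R'] [IsLocalRing R]
    [IsLocalRing R'] [Algebra R R'] (hs : Function.Surjective (algebraMap R R'))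
    (M : Type u) [AddCommGroup M] [Module R M] [Module R' M] [IsScalarTower R R' M] :
    CP n R M ↔ CP n R' M := by
  unfold CP
  rw [depth_eq_of_surjective hs M, supportDim_eq_of_surjective hs M]

/-- the codepth is invariant under semilinear isomorphisms along a surjective ring map. -/
theorem cp_iff_of_semilinear (n : ℕ) {R R' : Type u} [CommRing R] [CommRing R'] [IsLocalRing R]
    [IsLocalRing R'] (φ : R →+* R') (hφ : Function.Surjective φ)
    {M M' : Type u} [AddCommGroup M] [Module R M] [AddCommGroup M'] [Module R' M']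
    (g : M ≃+ M') (hg : ∀ (r : R) (m : M), g (r • m) = φ r • g m) :
    CP n R M ↔ CP n R' M' := by
  letI : Algebra R R' := φ.toAlgebra
  letI : Module R M' := Module.compHom M' φ
  haveI : IsScalarTower R R' M' := IsScalarTower.of_algebraMap_smul fun r m => rfl
  let e : M ≃ₗ[R] M' := { g with map_smul' := fun r m => hg r m }
  rw [cp_congr n e]
  exact cp_iff_of_surjective n (R := R) (R' := R') hφ M'

section LemmaT

variable {L : Type u} [CommRing L] [IsLocalRing L] {W : Type u} [AddCommGroup W] [Module L W]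
  [Module.Finite L W]

/-- **Ascent of the codepth along a flat map from a regular local ring.** -/
theorem cpq_of_flat_regular (n : ℕ) (K₁ K₂ : Ideal L) (h12 : K₁ ≤ K₂) [IsNoetherianRing (L ⧸ K₁)]
    [IsLocalRing (L ⧸ K₁)] (A₀ : Type u) [CommRing A₀] [IsRegularLocalRing A₀]
    [Algebra A₀ (L ⧸ K₁)] [IsLocalHom (algebraMap A₀ (L ⧸ K₁))]
    [Module A₀ (W ⧸ K₁ • (⊤ : Submodule L W))]
    [IsScalarTower A₀ (L ⧸ K₁) (W ⧸ K₁ • (⊤ : Submodule L W))]
    [Module.Flat A₀ (W ⧸ K₁ • (⊤ : Submodule L W))]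
    (hK : (maximalIdeal A₀).map (algebraMap A₀ (L ⧸ K₁)) = K₂.map (Ideal.Quotient.mk K₁))
    (h : CPq n L W K₂) : CPq n L W K₁ := by
  by_cases hnt : Subsingleton (W ⧸ K₁ • (⊤ : Submodule L W))
  · exact cp_of_subsingleton n L _
  rw [not_subsingleton_iff_nontrivial] at hnt
  have hsurj : Function.Surjective (algebraMap L (L ⧸ K₁)) := Ideal.Quotient.mk_surjective
  haveI : Module.Finite (L ⧸ K₁) (W ⧸ K₁ • (⊤ : Submodule L W)) :=
    Module.Finite.of_restrictScalars_finite L _ _
  have h1 := Groth.Agent.Lib.Helper4.depth_tensor_eq (R := A₀) (S := L ⧸ K₁) A₀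
    (W ⧸ K₁ • (⊤ : Submodule L W))
  have h2 := Groth.Agent.Lib.Helper22.DimFlat.supportDim_tensor_eq A₀ (L ⧸ K₁) A₀
    (W ⧸ K₁ • (⊤ : Submodule L W))
  rw [hK] at h1 h2
  have e := quotQuotEquiv (W := W) K₁ K₂ h12
  have hcpU : CP n (L ⧸ K₁)
      ((W ⧸ K₁ • (⊤ : Submodule L W)) ⧸ ((K₂.map (Ideal.Quotient.mk K₁)) •
      (⊤ : Submodule (L ⧸ K₁) (W ⧸ K₁ • (⊤ : Submodule L W))))) := by
    rw [← cp_iff_of_surjective n (R := L) (R' := L ⧸ K₁) hsurj, cp_congr n e]
    exact h
  have hA₀ := Groth.Agent.Lib.Helper4.RegCM.isCohenMacaulayModule_self A₀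
  unfold LocCoh.IsCohenMacaulayModule at hA₀
  unfold CP at hcpU
  have hcpT : CP n (L ⧸ K₁) ((W ⧸ K₁ • (⊤ : Submodule L W)) ⊗[A₀] A₀) := by
    unfold CP
    rw [h1, h2, hA₀]
    push_cast
    rw [add_assoc]
    exact add_le_add_right hcpU _
  unfold CPq
  rw [cp_iff_of_surjective n (R := L) (R' := L ⧸ K₁) hsurj]
  exact (cp_congr n
    (TensorProduct.AlgebraTensorModule.rid A₀ (L ⧸ K₁) (W ⧸ K₁ • (⊤ : Submodule L W)))).1 hcpT

end LemmaT

end Groth.Agent.Lib.Helper14.CMMod
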