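import Mathlib
import Groth.Agent.Lib.Helper14.CMMod.Coprof
import Groth.Agent.Lib.Helper22.DimFibre

/-!
# Local algebra for the codepth: unit multiples of regular sequences, systems of parameters,
the dimension inequality for modules (helper14)
-/

set_option autoImplicit false
set_option linter.style.haveILetI false
set_option linter.unusedSectionVars false
universe u

open IsLocalRing TensorProduct RingTheory.Sequence

namespace Groth.Agent.Lib.Helper14.CMMod

section Units

variable {R : Type u} [CommRing R] {M : Type u} [AddCommGroup M] [Module R M]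

theorem ofList_map_eq_of_unit (rs : List R) (F : R → R)
    (hF : ∀ r ∈ rs, ∃ u : R, IsUnit u ∧ F r = r * u) :
    Ideal.ofList (rs.map F) = Ideal.ofList rs := by
  apply le_antisymm
  · rw [Ideal.ofList, Ideal.span_le]
    intro x hx
    obtain ⟨r, hr, rfl⟩ := List.mem_map.1 hx
    obtain ⟨u, -, hu⟩ := hF r hr
    rw [hu]
    exact Ideal.mul_mem_right _ _ (Ideal.subset_span hr)
  · rw [Ideal.ofList, Ideal.span_le]
    intro r hr
    obtain ⟨u, hu, hFr⟩ := hF r hr
    have h1 : F r ∈ Ideal.ofList (rs.map F) := Ideal.subset_span (List.mem_map.2 ⟨r, hr, rfl⟩)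
    obtain ⟨v, rfl⟩ := hu
    have h2 : r = F r * ↑v⁻¹ := by rw [hFr, mul_assoc, Units.mul_inv, mul_one]
    rw [SetLike.mem_coe, h2]
    exact Ideal.mul_mem_right _ _ h1

/-- multiplying the terms of a weakly regular sequence by units keeps it weakly regular. -/
theorem isWeaklyRegular_map_of_unit (rs : List R) (F : R → R)
    (hF : ∀ r ∈ rs, ∃ u : R, IsUnit u ∧ F r = r * u) (h : IsWeaklyRegular M rs) :
    IsWeaklyRegular M (rs.map F) := by
  rw [isWeaklyRegular_iff] at h ⊢
  intro i hi
  have hi' : i < rs.length := by rwa [List.length_map] at hi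
  have h1 := h i hi'
  have h2 : Ideal.ofList ((rs.map F).take i) = Ideal.ofList (rs.take i) := by
    rw [← List.map_take]
    exact ofList_map_eq_of_unit _ F fun r hr => hF r (List.mem_of_mem_take hr)
  rw [h2, List.getElem_map]
  obtain ⟨u, hu, hFr⟩ := hF rs[i] (List.getElem_mem hi')
  rw [hFr]
  exact h1.mul (hu.isSMulRegular _)

end Units

section SOP

variable {R : Type u} [CommRing R] [IsLocalRing R] [IsNoetherianRing R]

theorem supportDim_quot_le {M : Type u} [AddCommGroup M] [Module R M] (P : Submodule R M) :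
    Module.supportDim R (M ⧸ P) ≤ Module.supportDim R M :=
  Module.supportDim_le_of_surjective P.mkQ (Submodule.mkQ_surjective P)

/-- a parameter: an element of the maximal ideal cutting down the dimension of a module of
positive dimension. -/
theorem exists_parameter (M : Type u) [AddCommGroup M] [Module R M] [Module.Finite R M]
    (h0 : ¬ Module.supportDim R M ≤ 0) :
    ∃ x ∈ maximalIdeal R, Module.supportDim R (QuotSMulTop x M) + 1 ≤ Module.supportDim R M := by
  classical
  have hfin : (Module.annihilator R M).minimalPrimes.Finite :=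
    Ideal.finite_minimalPrimes_of_isNoetherianRing R _
  have hnot : ¬ ((maximalIdeal R : Set R) ⊆ ⋃ p ∈ (↑hfin.toFinset : Set (Ideal R)), (p : Set R)) := by
    intro hsub
    rw [Ideal.subset_union_prime (f := fun p : Ideal R => p) ⊥ ⊥ (fun p hp _ _ => by
      rw [Set.Finite.mem_toFinset] at hp
      exact hp.1.1)] at hsub
    obtain ⟨p, hp, hle⟩ := hsub
    rw [Set.Finite.mem_toFinset] at hp
    have hpm : p = maximalIdeal R :=
      le_antisymm (IsLocalRing.le_maximalIdeal hp.1.1.ne_top) hle
    rw [hpm] at hp
    apply h0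
    unfold Module.supportDim
    haveI : Subsingleton (Module.support R M) := by
      refine ⟨fun a b => ?_⟩
      have key : ∀ c : Module.support R M, c.1.asIdeal = maximalIdeal R := by
        intro c
        have hann := Module.annihilator_le_of_mem_support c.2
        exact le_antisymm (IsLocalRing.le_maximalIdeal c.1.2.ne_top)
          (hp.2 ⟨c.1.2, hann⟩ (IsLocalRing.le_maximalIdeal c.1.2.ne_top))
      exact Subtype.ext (PrimeSpectrum.ext ((key a).trans (key b).symm))
    exact Order.krullDim_nonpos_of_subsingleton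
  rw [Set.not_subset] at hnot
  obtain ⟨x, hxm, hx⟩ := hnot
  refine ⟨x, hxm, Module.supportDim_quotSMulTop_succ_le_of_notMem_minimalPrimes ?_⟩
  intro p hp hxp
  apply hx
  simp only [Set.mem_iUnion]
  exact ⟨p, by simpa using hp, hxp⟩

/-- **systems of parameters** for a module. -/
theorem exists_sop : ∀ (c : ℕ) (M : Type u) [AddCommGroup M] [Module R M] [Module.Finite R M],
    Module.supportDim R M ≤ ((c : ℕ∞) : WithBot ℕ∞) →
    ∃ hs : List R, (∀ h ∈ hs, h ∈ maximalIdeal R) ∧ hs.length ≤ c ∧
      Module.supportDim R (M ⧸ Ideal.ofList hs • (⊤ : Submodule R M)) ≤ 0 := by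
  intro c
  induction c with
  | zero =>
    intro M _ _ _ hM
    exact ⟨[], by simp, le_rfl, (supportDim_quot_le _).trans (by exact_mod_cast hM)⟩
  | succ c ih =>
    intro M _ _ _ hM
    by_cases h0 : Module.supportDim R M ≤ 0
    · exact ⟨[], by simp, Nat.zero_le _, (supportDim_quot_le _).trans h0⟩
    obtain ⟨x, hxm, hx⟩ := exists_parameter M h0
    have h1 : Module.supportDim R (QuotSMulTop x M) ≤ ((c : ℕ∞) : WithBot ℕ∞) := by
      have h2 := hx.trans hM
      generalize Module.supportDim R (QuotSMulTop x M) = a at h2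
      induction a using WithBot.recBotCoe with
      | bot => exact bot_le
      | coe a =>
        have h3 : a + 1 ≤ ((c + 1 : ℕ) : ℕ∞) := by exact_mod_cast h2
        have h4 : a ≤ (c : ℕ∞) := by
          induction a using ENat.recTopCoe with
          | top => simp at h3
          | coe a =>
            have : a + 1 ≤ c + 1 := by exact_mod_cast h3
            exact_mod_cast (by omega : a ≤ c)
        exact_mod_cast h4
    obtain ⟨hs, hsm, hlen, hdim⟩ := ih (QuotSMulTop x M) h1
    refine ⟨x :: hs, ?_, by simp; omega, ?_⟩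
    · intro h hh
      rcases List.mem_cons.1 hh with rfl | hh
      · exact hxm
      · exact hsm h hh
    · rw [Module.supportDim_eq_of_equiv (Submodule.quotOfListConsSMulTopEquivQuotSMulTopInner M x hs)]
      exact hdim

end SOP

section DimIneq

variable {A₀ L : Type u} [CommRing A₀] [CommRing L] [IsNoetherianRing A₀] [IsNoetherianRing L]
  [IsLocalRing A₀] [IsLocalRing L] [Algebra A₀ L] [IsLocalHom (algebraMap A₀ L)]

/-- **the dimension inequality for modules**: `dim M ≤ dim A₀ + dim M / 𝔪₀ M`. -/
theorem supportDim_le_add (M : Type u) [AddCommGroup M] [Module L M] [Module.Finite L M] :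
    Module.supportDim L M ≤ ringKrullDim A₀ +
      Module.supportDim L (M ⧸ ((maximalIdeal A₀).map (algebraMap A₀ L)) •
        (⊤ : Submodule L M)) := by
  by_cases hM : Subsingleton M
  · rw [Module.supportDim_eq_bot_of_subsingleton]
    exact bot_le
  rw [not_subsingleton_iff_nontrivial] at hM
  set I := Module.annihilator L M with hI
  set J := (maximalIdeal A₀).map (algebraMap A₀ L) with hJ
  have hIne : I ≠ ⊤ := fun h => by
    rw [hI, Module.annihilator_eq_top_iff] at h
    exact not_subsingleton M h
  haveI : Nontrivial (L ⧸ I) := Ideal.Quotient.nontrivial_iff.mpr hIne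
  haveI : IsLocalRing (L ⧸ I) :=
    IsLocalRing.of_surjective' (Ideal.Quotient.mk I) Ideal.Quotient.mk_surjective
  haveI : IsLocalHom (Ideal.Quotient.mk I) :=
    IsLocalHom.of_surjective _ Ideal.Quotient.mk_surjective
  haveI : IsLocalHom (algebraMap A₀ (L ⧸ I)) := by
    rw [IsScalarTower.algebraMap_eq A₀ L (L ⧸ I), Ideal.Quotient.algebraMap_eq]
    exact RingHom.isLocalHom_comp _ _
  have h1 := Groth.Agent.Lib.Helper22.DimFibre.dim_le_add (A := A₀) (B := L ⧸ I)
  rw [Module.supportDim_eq_ringKrullDim_quotient_annihilator]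
  refine h1.trans (add_le_add_right ?_ _)
  -- the closed fibre
  have h2 : (maximalIdeal A₀).map (algebraMap A₀ (L ⧸ I)) = J.map (Ideal.Quotient.mk I) := by
    rw [hJ, Ideal.map_map, IsScalarTower.algebraMap_eq A₀ L (L ⧸ I),
      Ideal.Quotient.algebraMap_eq]
  rw [h2, ringKrullDim_eq_of_ringEquiv (DoubleQuot.quotQuotEquivQuotSup I J),
    ← Module.supportDim_quotient_eq_ringKrullDim]
  unfold Module.supportDim
  have h3 : Module.support L (L ⧸ (I ⊔ J)) = PrimeSpectrum.zeroLocus ((I ⊔ J : Ideal L) : Set L) := by
    rw [Module.support_eq_zeroLocus, Ideal.annihilator_quotient]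
  have h4 : Module.support L (M ⧸ J • (⊤ : Submodule L M)) =
      PrimeSpectrum.zeroLocus ((I ⊔ J : Ideal L) : Set L) := by
    rw [Module.support_quotient, Module.support_eq_zeroLocus, PrimeSpectrum.zeroLocus_sup]
  rw [h3, h4]

end DimIneq

end Groth.Agent.Lib.Helper14.CMMod
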