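import Mathlib
import Groth.Prelude.Def_EGA4b
import Groth.Agent.Lib.Helper14.CMMod.LemmaT

/-!
# Fibre local rings and modules: dimension zero, finiteness, regularity for polynomial rings,
and the concrete form of the ascent lemma (helper14)
-/

set_option autoImplicit false
set_option linter.style.haveILetI false
set_option linter.unusedSectionVars false
universe u

open IsLocalRing TensorProduct

namespace Groth.Agent.Lib.Helper14.CMMod

section DimZero

variable {L : Type u} [CommRing L] [IsLocalRing L] {W : Type u} [AddCommGroup W] [Module L W]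
  [Module.Finite L W]

/-- if the only prime of the support of `W` containing `K` is the maximal ideal, then `W / K W`
is zero or Cohen–Macaulay (of dimension `0`). -/
theorem cmq_of_support_subset (K : Ideal L) [IsNoetherianRing (L ⧸ K)] [IsLocalRing (L ⧸ K)]
    (hZ : ∀ 𝔯 : PrimeSpectrum L, K ≤ 𝔯.asIdeal → 𝔯 ∈ Module.support L W →
      𝔯.asIdeal = maximalIdeal L) : CMq L W K := by
  by_cases hnt : Subsingleton (W ⧸ K • (⊤ : Submodule L W))
  · exact Or.inl hnt
  rw [not_subsingleton_iff_nontrivial] at hnt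
  right
  have hsurj : Function.Surjective (algebraMap L (L ⧸ K)) := Ideal.Quotient.mk_surjective
  haveI : Module.Finite (L ⧸ K) (W ⧸ K • (⊤ : Submodule L W)) :=
    Module.Finite.of_restrictScalars_finite L _ _
  have hsub : ∀ 𝔯 ∈ Module.support L (W ⧸ K • (⊤ : Submodule L W)), 𝔯 = closedPoint L := by
    intro 𝔯 h𝔯
    rw [Module.support_quotient] at h𝔯
    apply PrimeSpectrum.ext
    exact hZ 𝔯 ((PrimeSpectrum.mem_zeroLocus _ _).1 h𝔯.2) h𝔯.1
  have hdim : Module.supportDim L (W ⧸ K • (⊤ : Submodule L W)) = 0 := by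
    unfold Module.supportDim
    haveI : Nonempty (Module.support L (W ⧸ K • (⊤ : Submodule L W))) :=
      (Module.nonempty_support_of_nontrivial).to_subtype
    haveI : Subsingleton (Module.support L (W ⧸ K • (⊤ : Submodule L W))) :=
      ⟨fun a b => Subtype.ext ((hsub a.1 a.2).trans (hsub b.1 b.2).symm)⟩
    exact Order.krullDim_eq_zero
  have hdim' : Module.supportDim (L ⧸ K) (W ⧸ K • (⊤ : Submodule L W)) = 0 := by
    rw [← supportDim_eq_of_surjective (R := L) (R' := L ⧸ K) hsurj]
    exact hdim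
  have hdep := Groth.Agent.Lib.Helper4.depth_le_supportDim (R := L ⧸ K)
    (M := W ⧸ K • (⊤ : Submodule L W))
  rw [hdim'] at hdep
  rw [cm_iff_of_surjective (R := L) (R' := L ⧸ K) hsurj]
  unfold LocCoh.IsCohenMacaulayModule
  rw [hdim']
  have h0 : LocCoh.depth (L ⧸ K) (W ⧸ K • (⊤ : Submodule L W)) = 0 := by
    have : ((LocCoh.depth (L ⧸ K) (W ⧸ K • (⊤ : Submodule L W)) : ℕ∞) : WithBot ℕ∞) ≤
        ((0 : ℕ∞) : WithBot ℕ∞) := by exact_mod_cast hdep
    exact le_antisymm (by exact_mod_cast this) bot_le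
  rw [h0]
  rfl

end DimZero

section FibLoc

variable (R S : Type u) [CommRing R] [CommRing S] [Algebra R S]

theorem map_comap_le_maximalIdeal (q : Ideal S) [q.IsPrime] :
    (q.comap (algebraMap R S)).map (algebraMap R (Localization.AtPrime q)) ≤
      maximalIdeal (Localization.AtPrime q) := by
  rw [Ideal.map_le_iff_le_comap]
  intro x hx
  rw [Ideal.mem_comap, IsScalarTower.algebraMap_apply R S (Localization.AtPrime q),
    IsLocalization.AtPrime.to_map_mem_maximal_iff (Localization.AtPrime q) q]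
  exact hx

instance nontrivial_fibLocRing (q : Ideal S) [q.IsPrime] : Nontrivial (EGA4.FibLocRing R S q) :=
  Ideal.Quotient.nontrivial_iff.mpr fun h =>
    (IsLocalRing.maximalIdeal.isMaximal (Localization.AtPrime q)).ne_top
      (top_le_iff.mp (h ▸ map_comap_le_maximalIdeal R S q))

instance isLocalRing_fibLocRing (q : Ideal S) [q.IsPrime] : IsLocalRing (EGA4.FibLocRing R S q) :=
  IsLocalRing.of_surjective' (Ideal.Quotient.mk _) Ideal.Quotient.mk_surjective

variable (p : Ideal R) [p.IsPrime]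

theorem comap_comap_includeRight (𝔮 : Ideal (p.Fiber S)) [𝔮.IsPrime] :
    (𝔮.comap (Algebra.TensorProduct.includeRight : S →ₐ[R] p.Fiber S)).comap
      (algebraMap R S) = p := by
  have h1 : p = 𝔮.under R := Ideal.LiesOver.over
  have h2 : ∀ x, x ∈ p ↔ algebraMap R (p.Fiber S) x ∈ 𝔮 := fun x =>
    (SetLike.ext_iff.mp h1 x).trans Ideal.mem_comap
  ext x
  rw [Ideal.mem_comap, Ideal.mem_comap, h2, AlgHom.commutes]

theorem nonempty_localization_fiber_equiv (𝔮 : Ideal (p.Fiber S)) [𝔮.IsPrime] :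
    Nonempty (Localization.AtPrime 𝔮 ≃+* EGA4.FibLocRing R S
      (𝔮.comap (Algebra.TensorProduct.includeRight : S →ₐ[R] p.Fiber S))) := by
  have h := comap_comap_includeRight R S p 𝔮
  haveI : (𝔮.comap (Algebra.TensorProduct.includeRight : S →ₐ[R] p.Fiber S)).LiesOver p :=
    ⟨h.symm⟩
  letI := Localization.AtPrime.algebraOfLiesOver p
    (𝔮.comap (Algebra.TensorProduct.includeRight : S →ₐ[R] p.Fiber S))
  have e := Ideal.Fiber.localizationAlgEquivQuotient p 𝔮
  exact ⟨e.toRingEquiv.trans (Ideal.quotEquivOfEq (by rw [h]))⟩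

theorem exists_fiber_prime (r : Ideal S) [r.IsPrime] (hr : r.comap (algebraMap R S) = p) :
    ∃ (𝔮 : Ideal (p.Fiber S)) (_ : 𝔮.IsPrime),
      𝔮.comap (Algebra.TensorProduct.includeRight : S →ₐ[R] p.Fiber S) = r := by
  let x : (PrimeSpectrum.comap (algebraMap R S)) ⁻¹' {(⟨p, inferInstance⟩ : PrimeSpectrum R)} :=
    ⟨⟨r, inferInstance⟩, by
      rw [Set.mem_preimage, Set.mem_singleton_iff]
      exact PrimeSpectrum.ext hr⟩
  refine ⟨(PrimeSpectrum.preimageEquivFiber R S ⟨p, inferInstance⟩ x).asIdeal,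
    (PrimeSpectrum.preimageEquivFiber R S ⟨p, inferInstance⟩ x).2, ?_⟩
  have h := (PrimeSpectrum.preimageEquivFiber R S ⟨p, inferInstance⟩).symm_apply_apply x
  have h' := congrArg (fun z => z.1.asIdeal) h
  ext y
  have h'' := SetLike.ext_iff.mp h' y
  exact h''

/-- a property of the local rings of the fibre ring passes to the fibre local rings. -/
theorem fibLocRing_of_fiber (P : ∀ (X : Type u) [CommRing X], Prop)
    (hP : ∀ (X Y : Type u) [CommRing X] [CommRing Y], (X ≃+* Y) → P X → P Y)
    (H : ∀ (𝔮 : Ideal (p.Fiber S)) [𝔮.IsPrime], P (Localization.AtPrime 𝔮))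
    (r : Ideal S) [r.IsPrime] (hr : r.comap (algebraMap R S) = p) :
    P (EGA4.FibLocRing R S r) := by
  obtain ⟨𝔮, h𝔮, rfl⟩ := exists_fiber_prime R S p r hr
  haveI := h𝔮
  obtain ⟨e⟩ := nonempty_localization_fiber_equiv R S p 𝔮
  exact hP _ _ e (H 𝔮)

instance isNoetherianRing_fibLocRing [Algebra.FiniteType R S] (q : Ideal S) [q.IsPrime] :
    IsNoetherianRing (EGA4.FibLocRing R S q) := by
  haveI : (q.comap (algebraMap R S)).IsPrime := Ideal.IsPrime.comap _
  refine fibLocRing_of_fiber R S (q.comap (algebraMap R S)) (fun X _ => IsNoetherianRing X)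
    (fun X Y _ _ e hX => by haveI := hX; exact isNoetherianRing_of_ringEquiv X e) ?_ q rfl
  intro 𝔮 _
  haveI : Algebra.FiniteType (q.comap (algebraMap R S)).ResidueField
      ((q.comap (algebraMap R S)).Fiber S) :=
    inferInstanceAs (Algebra.FiniteType (q.comap (algebraMap R S)).ResidueField
      ((q.comap (algebraMap R S)).ResidueField ⊗[R] S))
  haveI : IsNoetherianRing ((q.comap (algebraMap R S)).Fiber S) :=
    Algebra.FiniteType.isNoetherianRing (q.comap (algebraMap R S)).ResidueField _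
  exact IsLocalization.isNoetherianRing 𝔮.primeCompl _ inferInstance

theorem isRegularLocalRing_fibLocRing_mvPolynomial (n : ℕ) (P : Ideal (MvPolynomial (Fin n) R))
    [P.IsPrime] : IsRegularLocalRing (EGA4.FibLocRing R (MvPolynomial (Fin n) R) P) := by
  haveI : (P.comap (algebraMap R (MvPolynomial (Fin n) R))).IsPrime := Ideal.IsPrime.comap _
  refine fibLocRing_of_fiber R (MvPolynomial (Fin n) R)
    (P.comap (algebraMap R (MvPolynomial (Fin n) R))) (fun X _ => IsRegularLocalRing X)
    (fun X Y _ _ e hX => by haveI := hX; exact IsRegularLocalRing.of_ringEquiv e) ?_ P rfl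
  intro 𝔮 _
  set p := P.comap (algebraMap R (MvPolynomial (Fin n) R)) with hp
  have e : p.Fiber (MvPolynomial (Fin n) R) ≃ₐ[p.ResidueField]
      MvPolynomial (Fin n) p.ResidueField := MvPolynomial.algebraTensorAlgEquiv R p.ResidueField
  haveI : IsRegularRing (p.Fiber (MvPolynomial (Fin n) R)) :=
    IsRegularRing.of_ringEquiv e.symm.toRingEquiv
  exact IsRegularRing.isRegularLocalRing_localization 𝔮

end FibLoc

/-- flatness passes to the quotient by `I`, in the form `W / I W` over `B / I`. -/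
theorem flat_quot_smul_top'' {B W : Type u} [CommRing B] [AddCommGroup W] [Module B W]
    [Module.Flat B W] (I : Ideal B) :
    Module.Flat (B ⧸ I) (W ⧸ I • (⊤ : Submodule B W)) :=
  Module.Flat.of_linearEquiv
    ((quotTensorEquivQuotSMul W I).extendScalarsOfSurjective Ideal.Quotient.mk_surjective).symm

section Descend

variable (A A' B : Type u) [CommRing A] [CommRing A'] [CommRing B] [Algebra A A'] [Algebra A' B]
  [Algebra A B] [IsScalarTower A A' B] [Algebra.FiniteType A B]
  (N : Type u) [AddCommGroup N] [Module B N] [Module.Finite B N] [Module A' N]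
  [IsScalarTower A' B N] (Q : Ideal B) [Q.IsPrime]

local notation "LQ" => Localization.AtPrime Q
local notation "WQ" => LocalizedModule (Ideal.primeCompl Q) N
local notation "PP" => Ideal.comap (algebraMap A' B) Q
local notation "pp" => Ideal.comap (algebraMap A B) Q
local notation "AP" => Localization.AtPrime (Ideal.comap (algebraMap A' B) Q)
local notation "K1" => Ideal.map (algebraMap A (Localization.AtPrime Q))
  (Ideal.comap (algebraMap A B) Q)
local notation "K2" => Ideal.map (algebraMap A' (Localization.AtPrime Q))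
  (Ideal.comap (algebraMap A' B) Q)
local notation "II" => Ideal.map
  (algebraMap A (Localization.AtPrime (Ideal.comap (algebraMap A' B) Q)))
  (Ideal.comap (algebraMap A B) Q)

set_option maxHeartbeats 1600000 in
/-- **descent of the fibrewise Cohen–Macaulay condition** from the base `A'` to the base `A`,
when the fibre local ring of `A'` over `A` is regular and `N_Q` is flat over `A'`. -/
theorem cmq_descend
    (hreg : IsRegularLocalRing (EGA4.FibLocRing A A' (Q.comap (algebraMap A' B))))
    (hflat : Module.Flat A' (LocalizedModule Q.primeCompl N))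
    (h : CMq LQ WQ K2) : CMq LQ WQ K1 := by
  haveI tAA'L : IsScalarTower A A' LQ :=
    IsScalarTower.of_algebraMap_eq fun a => by
      rw [IsScalarTower.algebraMap_apply A B LQ, IsScalarTower.algebraMap_apply A' B LQ,
        ← IsScalarTower.algebraMap_apply A A' B]
  -- the local homomorphism of the localizations
  let ψ₀ : AP →+* LQ := Localization.localRingHom PP Q (algebraMap A' B) rfl
  have hψ₀ : ∀ a : A', ψ₀ (algebraMap A' AP a) = algebraMap A' LQ a := fun a => by
    rw [Localization.localRingHom_to_map, ← IsScalarTower.algebraMap_apply]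
  haveI lψ₀ : IsLocalHom ψ₀ := Localization.isLocalHom_localRingHom PP Q _ rfl
  -- ideals
  have hpP : Ideal.map (algebraMap A A') pp ≤ PP := by
    rw [Ideal.map_le_iff_le_comap]
    intro a ha
    change algebraMap A' B (algebraMap A A' a) ∈ Q
    rw [← IsScalarTower.algebraMap_apply]
    exact ha
  have hK₁ : K1 = Ideal.map (algebraMap A' LQ) (Ideal.map (algebraMap A A') pp) := by
    rw [Ideal.map_map, ← IsScalarTower.algebraMap_eq]
  have h12 : K1 ≤ K2 := by
    rw [hK₁]
    exact Ideal.map_mono hpP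
  have hIψ : Ideal.map ψ₀ II = K1 := by
    rw [Ideal.map_map]
    congr 1
    ext a
    rw [RingHom.comp_apply, IsScalarTower.algebraMap_apply A A' AP, hψ₀,
      ← IsScalarTower.algebraMap_apply]
  have hle : II ≤ Ideal.comap ψ₀ K1 := Ideal.map_le_iff_le_comap.1 hIψ.le
  -- the base ring `A₀ = AP / II`
  have hcomap : Ideal.comap (algebraMap A A') PP = pp := by
    rw [Ideal.comap_comap, ← IsScalarTower.algebraMap_eq]
  haveI hregA₀ : IsRegularLocalRing (AP ⧸ II) := by
    haveI := hreg
    refine IsRegularLocalRing.of_ringEquiv (R := EGA4.FibLocRing A A' PP)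
      (Ideal.quotEquivOfEq ?_)
    rw [hcomap]
  haveI lL : IsLocalRing (LQ ⧸ K1) := isLocalRing_fibLocRing A B Q
  haveI nL : IsNoetherianRing (LQ ⧸ K1) := isNoetherianRing_fibLocRing A B Q
  letI aA₀ : Algebra (AP ⧸ II) (LQ ⧸ K1) := (Ideal.quotientMap K1 ψ₀ hle).toAlgebra
  have halg : ∀ a : AP, algebraMap (AP ⧸ II) (LQ ⧸ K1) (Ideal.Quotient.mk II a) =
      Ideal.Quotient.mk K1 (ψ₀ a) := fun a => rfl
  haveI lmk : IsLocalHom (Ideal.Quotient.mk K1) :=
    IsLocalHom.of_surjective _ Ideal.Quotient.mk_surjective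
  haveI lalg : IsLocalHom (algebraMap (AP ⧸ II) (LQ ⧸ K1)) := by
    refine ⟨fun a' ha' => ?_⟩
    obtain ⟨a, rfl⟩ := Ideal.Quotient.mk_surjective a'
    rw [halg] at ha'
    have h2 : IsUnit (ψ₀ a) := isUnit_of_map_unit (Ideal.Quotient.mk K1) _ ha'
    have h3 : IsUnit a := isUnit_of_map_unit ψ₀ _ h2
    exact h3.map _
  letI mA₀ : Module (AP ⧸ II) (WQ ⧸ K1 • (⊤ : Submodule LQ WQ)) :=
    Module.compHom _ (algebraMap (AP ⧸ II) (LQ ⧸ K1))
  haveI tA₀ : IsScalarTower (AP ⧸ II) (LQ ⧸ K1) (WQ ⧸ K1 • (⊤ : Submodule LQ WQ)) :=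
    IsScalarTower.of_algebraMap_smul fun r m => rfl
  -- flatness over `A₀`
  letI aAPL : Algebra AP LQ := ψ₀.toAlgebra
  letI mAPW : Module AP WQ := Module.compHom WQ ψ₀
  haveI tAPLW : IsScalarTower AP LQ WQ := IsScalarTower.of_algebraMap_smul fun r m => rfl
  haveI tA'APW : IsScalarTower A' AP WQ := by
    refine IsScalarTower.of_algebraMap_smul fun a w => ?_
    change ψ₀ (algebraMap A' AP a) • w = a • w
    rw [hψ₀, algebraMap_smul]
  haveI flAPW : Module.Flat AP WQ :=
    (Module.flat_iff_of_isLocalization AP (Ideal.primeCompl PP) WQ).2 hflat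
  have hfl1 : Module.Flat (AP ⧸ II) (WQ ⧸ II • (⊤ : Submodule AP WQ)) :=
    flat_quot_smul_top'' II
  have heq : II • (⊤ : Submodule AP WQ) =
      (K1 • (⊤ : Submodule LQ WQ)).restrictScalars AP := by
    have h1 := Ideal.smul_restrictScalars (S := LQ) II (⊤ : Submodule LQ WQ)
    rw [Submodule.restrictScalars_top] at h1
    rw [← h1, show Ideal.map (algebraMap AP LQ) II = K1 from hIψ]
  let e0 : (WQ ⧸ II • (⊤ : Submodule AP WQ)) ≃ₗ[AP] (WQ ⧸ K1 • (⊤ : Submodule LQ WQ)) :=
    (Submodule.quotEquivOfEq _ _ heq).trans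
      (Submodule.Quotient.restrictScalarsEquiv AP (K1 • (⊤ : Submodule LQ WQ)))
  haveI tAPA₀ : IsScalarTower AP (AP ⧸ II) (WQ ⧸ K1 • (⊤ : Submodule LQ WQ)) := by
    refine ⟨fun x y z => ?_⟩
    obtain ⟨b, rfl⟩ := Ideal.Quotient.mk_surjective y
    induction z using Submodule.Quotient.induction_on with
    | H w =>
      change Submodule.Quotient.mk (ψ₀ (x * b) • w) = Submodule.Quotient.mk (ψ₀ x • (ψ₀ b • w))
      rw [map_mul, mul_smul]
  haveI flA₀ : Module.Flat (AP ⧸ II) (WQ ⧸ K1 • (⊤ : Submodule LQ WQ)) :=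
    Module.Flat.of_linearEquiv
      (LinearEquiv.extendScalarsOfSurjective (S := AP ⧸ II) Ideal.Quotient.mk_surjective e0).symm
  -- the maximal ideal of `A₀`
  have hK : (maximalIdeal (AP ⧸ II)).map (algebraMap (AP ⧸ II) (LQ ⧸ K1)) =
      Ideal.map (Ideal.Quotient.mk K1) K2 := by
    rw [← map_maximalIdeal_of_surjective (Ideal.Quotient.mk II) Ideal.Quotient.mk_surjective,
      ← Localization.AtPrime.map_eq_maximalIdeal, Ideal.map_map, Ideal.map_map, Ideal.map_map]
    congr 1
    ext a
    simp only [RingHom.comp_apply]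
    rw [halg, hψ₀]
  exact cmq_of_flat_regular (L := LQ) (W := WQ) K1 K2 h12 (AP ⧸ II) hK h

end Descend

end Groth.Agent.Lib.Helper14.CMMod
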