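import Mathlib
import Groth.Agent.Lib.Helper14.CMMod.Fib
import Groth.Agent.Lib.Helper14.CMMod.CoprofAlg

/-!
# Codepth on fibres: descent along a tower, dimension of fibres of polynomial rings (helper14)
-/

set_option autoImplicit false
set_option linter.style.haveILetI false
set_option linter.unusedSectionVars false
universe u

open IsLocalRing TensorProduct RingTheory.Sequence

namespace Groth.Agent.Lib.Helper14.CMMod

section PolyDim

variable (R : Type u) [CommRing R]

theorem ringKrullDim_fibLocRing_mvPolynomial_le (m : ℕ) (P : Ideal (MvPolynomial (Fin m) R))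
    [P.IsPrime] :
    ringKrullDim (EGA4.FibLocRing R (MvPolynomial (Fin m) R) P) ≤ ((m : ℕ∞) : WithBot ℕ∞) := by
  haveI : (P.comap (algebraMap R (MvPolynomial (Fin m) R))).IsPrime := Ideal.IsPrime.comap _
  refine fibLocRing_of_fiber R (MvPolynomial (Fin m) R)
    (P.comap (algebraMap R (MvPolynomial (Fin m) R)))
    (fun X _ => ringKrullDim X ≤ ((m : ℕ∞) : WithBot ℕ∞))
    (fun X Y _ _ e hX => by rw [← ringKrullDim_eq_of_ringEquiv e]; exact hX) ?_ P rfl
  intro 𝔮 _
  set p := P.comap (algebraMap R (MvPolynomial (Fin m) R)) with hp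
  have e : p.Fiber (MvPolynomial (Fin m) R) ≃ₐ[p.ResidueField]
      MvPolynomial (Fin m) p.ResidueField := MvPolynomial.algebraTensorAlgEquiv R p.ResidueField
  rw [IsLocalization.AtPrime.ringKrullDim_eq_height 𝔮 (Localization.AtPrime 𝔮)]
  refine Ideal.height_le_ringKrullDim_of_isPrime.trans ?_
  rw [ringKrullDim_eq_of_ringEquiv e.toRingEquiv, MvPolynomial.ringKrullDim_of_isNoetherianRing,
    ringKrullDim_eq_zero_of_field, zero_add, Nat.card_fin]
  rfl

end PolyDim

section Descend

variable (A A' B : Type u) [CommRing A] [CommRing A'] [CommRing B] [Algebra A A'] [Algebra A' B]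
  [Algebra A B] [IsScalarTower A A' B] [Algebra.FiniteType A B]
  (N : Type u) [AddCommGroup N] [Module B N] [Module.Finite B N] [Module A' N]
  [IsScalarTower A' B N] (Q : Ideal B) [Q.IsPrime]

local notation "LQ" => Localization.AtPrime Q
local notation "WQ" => LocalizedModule (Ideal.primeCompl Q) N
local notation "PP" => Ideal.comap (algebraMap A' B) Q
local notation "pp" => Ideal.comap (algebraMap A B) Q
local notation "AP" => Localization.AtPrime (Ideal.comap (algebraMap A' B) Q)
local notation "K1" => Ideal.map (algebraMap A (Localization.AtPrime Q))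
  (Ideal.comap (algebraMap A B) Q)
local notation "K2" => Ideal.map (algebraMap A' (Localization.AtPrime Q))
  (Ideal.comap (algebraMap A' B) Q)
local notation "II" => Ideal.map
  (algebraMap A (Localization.AtPrime (Ideal.comap (algebraMap A' B) Q)))
  (Ideal.comap (algebraMap A B) Q)

set_option maxHeartbeats 1600000 in
/-- the local data for descending fibrewise properties from the base `A'` to the base `A`. -/
theorem descend_setup :
    ∃ (A₀ : Type u) (_ : CommRing A₀) (_ : IsLocalRing A₀)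
      (_ : A₀ ≃+* EGA4.FibLocRing A A' (Q.comap (algebraMap A' B)))
      (_ : Algebra A₀ (LQ ⧸ K1)) (_ : IsLocalHom (algebraMap A₀ (LQ ⧸ K1)))
      (_ : Module A₀ (WQ ⧸ K1 • (⊤ : Submodule LQ WQ)))
      (_ : IsScalarTower A₀ (LQ ⧸ K1) (WQ ⧸ K1 • (⊤ : Submodule LQ WQ))),
      K1 ≤ K2 ∧
      (maximalIdeal A₀).map (algebraMap A₀ (LQ ⧸ K1)) = Ideal.map (Ideal.Quotient.mk K1) K2 ∧
      (Module.Flat A' (LocalizedModule Q.primeCompl N) →
        Module.Flat A₀ (WQ ⧸ K1 • (⊤ : Submodule LQ WQ))) := by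
  haveI tAA'L : IsScalarTower A A' LQ :=
    IsScalarTower.of_algebraMap_eq fun a => by
      rw [IsScalarTower.algebraMap_apply A B LQ, IsScalarTower.algebraMap_apply A' B LQ,
        ← IsScalarTower.algebraMap_apply A A' B]
  -- the local homomorphism of the localizations
  let ψ₀ : AP →+* LQ := Localization.localRingHom PP Q (algebraMap A' B) rfl
  have hψ₀ : ∀ a : A', ψ₀ (algebraMap A' AP a) = algebraMap A' LQ a := fun a => by
    rw [Localization.localRingHom_to_map, ← IsScalarTower.algebraMap_apply]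
  haveI lψ₀ : IsLocalHom ψ₀ := Localization.isLocalHom_localRingHom PP Q _ rfl
  -- ideals
  have hpP : Ideal.map (algebraMap A A') pp ≤ PP := by
    rw [Ideal.map_le_iff_le_comap]
    intro a ha
    change algebraMap A' B (algebraMap A A' a) ∈ Q
    rw [← IsScalarTower.algebraMap_apply]
    exact ha
  have hK₁ : K1 = Ideal.map (algebraMap A' LQ) (Ideal.map (algebraMap A A') pp) := by
    rw [Ideal.map_map, ← IsScalarTower.algebraMap_eq]
  have h12 : K1 ≤ K2 := by
    rw [hK₁]
    exact Ideal.map_mono hpP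
  have hIψ : Ideal.map ψ₀ II = K1 := by
    rw [Ideal.map_map]
    congr 1
    ext a
    rw [RingHom.comp_apply, IsScalarTower.algebraMap_apply A A' AP, hψ₀,
      ← IsScalarTower.algebraMap_apply]
  have hle : II ≤ Ideal.comap ψ₀ K1 := Ideal.map_le_iff_le_comap.1 hIψ.le
  -- the base ring `A₀ = AP / II`
  have hcomap : Ideal.comap (algebraMap A A') PP = pp := by
    rw [Ideal.comap_comap, ← IsScalarTower.algebraMap_eq]
  let eA₀ : (AP ⧸ II) ≃+* EGA4.FibLocRing A A' PP := Ideal.quotEquivOfEq (by rw [hcomap])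
  haveI lA₀ : IsLocalRing (AP ⧸ II) := by
    haveI := isLocalRing_fibLocRing A A' PP
    exact eA₀.symm.isLocalRing
  haveI lL : IsLocalRing (LQ ⧸ K1) := isLocalRing_fibLocRing A B Q
  letI aA₀ : Algebra (AP ⧸ II) (LQ ⧸ K1) := (Ideal.quotientMap K1 ψ₀ hle).toAlgebra
  have halg : ∀ a : AP, algebraMap (AP ⧸ II) (LQ ⧸ K1) (Ideal.Quotient.mk II a) =
      Ideal.Quotient.mk K1 (ψ₀ a) := fun a => rfl
  haveI lmk : IsLocalHom (Ideal.Quotient.mk K1) :=
    IsLocalHom.of_surjective _ Ideal.Quotient.mk_surjective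
  haveI lalg : IsLocalHom (algebraMap (AP ⧸ II) (LQ ⧸ K1)) := by
    refine ⟨fun a' ha' => ?_⟩
    obtain ⟨a, rfl⟩ := Ideal.Quotient.mk_surjective a'
    rw [halg] at ha'
    have h2 : IsUnit (ψ₀ a) := isUnit_of_map_unit (Ideal.Quotient.mk K1) _ ha'
    have h3 : IsUnit a := isUnit_of_map_unit ψ₀ _ h2
    exact h3.map _
  letI mA₀ : Module (AP ⧸ II) (WQ ⧸ K1 • (⊤ : Submodule LQ WQ)) :=
    Module.compHom _ (algebraMap (AP ⧸ II) (LQ ⧸ K1))
  haveI tA₀ : IsScalarTower (AP ⧸ II) (LQ ⧸ K1) (WQ ⧸ K1 • (⊤ : Submodule LQ WQ)) :=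
    IsScalarTower.of_algebraMap_smul fun r m => rfl
  -- the maximal ideal of `A₀`
  have hK : (maximalIdeal (AP ⧸ II)).map (algebraMap (AP ⧸ II) (LQ ⧸ K1)) =
      Ideal.map (Ideal.Quotient.mk K1) K2 := by
    rw [← map_maximalIdeal_of_surjective (Ideal.Quotient.mk II) Ideal.Quotient.mk_surjective,
      ← Localization.AtPrime.map_eq_maximalIdeal, Ideal.map_map, Ideal.map_map, Ideal.map_map]
    congr 1
    ext a
    simp only [RingHom.comp_apply]
    rw [halg, hψ₀]
  refine ⟨AP ⧸ II, inferInstance, lA₀, eA₀, aA₀, lalg, mA₀, tA₀, h12, hK, ?_⟩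
  intro hflat
  -- flatness over `A₀`
  letI aAPL : Algebra AP LQ := ψ₀.toAlgebra
  letI mAPW : Module AP WQ := Module.compHom WQ ψ₀
  haveI tAPLW : IsScalarTower AP LQ WQ := IsScalarTower.of_algebraMap_smul fun r m => rfl
  haveI tA'APW : IsScalarTower A' AP WQ := by
    refine IsScalarTower.of_algebraMap_smul fun a w => ?_
    change ψ₀ (algebraMap A' AP a) • w = a • w
    rw [hψ₀, algebraMap_smul]
  haveI flAPW : Module.Flat AP WQ :=
    (Module.flat_iff_of_isLocalization AP (Ideal.primeCompl PP) WQ).2 hflat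
  have hfl1 : Module.Flat (AP ⧸ II) (WQ ⧸ II • (⊤ : Submodule AP WQ)) :=
    flat_quot_smul_top'' II
  have heq : II • (⊤ : Submodule AP WQ) =
      (K1 • (⊤ : Submodule LQ WQ)).restrictScalars AP := by
    have h1 := Ideal.smul_restrictScalars (S := LQ) II (⊤ : Submodule LQ WQ)
    rw [Submodule.restrictScalars_top] at h1
    rw [← h1, show Ideal.map (algebraMap AP LQ) II = K1 from hIψ]
  let e0 : (WQ ⧸ II • (⊤ : Submodule AP WQ)) ≃ₗ[AP] (WQ ⧸ K1 • (⊤ : Submodule LQ WQ)) :=
    (Submodule.quotEquivOfEq _ _ heq).trans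
      (Submodule.Quotient.restrictScalarsEquiv AP (K1 • (⊤ : Submodule LQ WQ)))
  haveI tAPA₀ : IsScalarTower AP (AP ⧸ II) (WQ ⧸ K1 • (⊤ : Submodule LQ WQ)) := by
    refine ⟨fun x y z => ?_⟩
    obtain ⟨b, rfl⟩ := Ideal.Quotient.mk_surjective y
    induction z using Submodule.Quotient.induction_on with
    | H w =>
      change Submodule.Quotient.mk (ψ₀ (x * b) • w) = Submodule.Quotient.mk (ψ₀ x • (ψ₀ b • w))
      rw [map_mul, mul_smul]
  exact Module.Flat.of_linearEquiv
    (LinearEquiv.extendScalarsOfSurjective (S := AP ⧸ II) Ideal.Quotient.mk_surjective e0).symm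

set_option maxHeartbeats 1600000 in
/-- **descent of the codepth** from the base `A'` to the base `A`, when the fibre local ring
of `A'` over `A` is regular and `N_Q` is flat over `A'`. -/
theorem cpq_descend (n : ℕ)
    (hreg : IsRegularLocalRing (EGA4.FibLocRing A A' (Q.comap (algebraMap A' B))))
    (hflat : Module.Flat A' (LocalizedModule Q.primeCompl N))
    (h : CPq n LQ WQ K2) : CPq n LQ WQ K1 := by
  obtain ⟨A₀, i1, i2, e, i3, i4, i5, i6, h12, hK, hfl⟩ := descend_setup A A' B N Q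
  haveI := hreg
  haveI : IsRegularLocalRing A₀ := IsRegularLocalRing.of_ringEquiv e.symm
  haveI lL : IsLocalRing (LQ ⧸ K1) := isLocalRing_fibLocRing A B Q
  haveI nL : IsNoetherianRing (LQ ⧸ K1) := isNoetherianRing_fibLocRing A B Q
  haveI := hfl hflat
  exact cpq_of_flat_regular (L := LQ) (W := WQ) n K1 K2 h12 A₀ hK h

set_option maxHeartbeats 1600000 in
/-- **the dimension inequality on fibres** along a tower. -/
theorem dim_descend [Algebra.FiniteType A A'] :
    Module.supportDim LQ (WQ ⧸ K1 • (⊤ : Submodule LQ WQ)) ≤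
      ringKrullDim (EGA4.FibLocRing A A' (Q.comap (algebraMap A' B))) +
        Module.supportDim LQ (WQ ⧸ K2 • (⊤ : Submodule LQ WQ)) := by
  obtain ⟨A₀, i1, i2, e, i3, i4, i5, i6, h12, hK, hfl⟩ := descend_setup A A' B N Q
  haveI lL : IsLocalRing (LQ ⧸ K1) := isLocalRing_fibLocRing A B Q
  haveI nL : IsNoetherianRing (LQ ⧸ K1) := isNoetherianRing_fibLocRing A B Q
  haveI nA₀ : IsNoetherianRing A₀ := by
    haveI := isNoetherianRing_fibLocRing A A' (Q.comap (algebraMap A' B))
    exact isNoetherianRing_of_ringEquiv _ e.symm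
  have hsurj : Function.Surjective (algebraMap LQ (LQ ⧸ K1)) := Ideal.Quotient.mk_surjective
  haveI : Module.Finite (LQ ⧸ K1) (WQ ⧸ K1 • (⊤ : Submodule LQ WQ)) :=
    Module.Finite.of_restrictScalars_finite LQ _ _
  have h1 := supportDim_le_add (A₀ := A₀) (L := LQ ⧸ K1) (WQ ⧸ K1 • (⊤ : Submodule LQ WQ))
  rw [hK, ringKrullDim_eq_of_ringEquiv e,
    ← supportDim_eq_of_surjective (R := LQ) (R' := LQ ⧸ K1) hsurj,
    ← supportDim_eq_of_surjective (R := LQ) (R' := LQ ⧸ K1) hsurj,
    Module.supportDim_eq_of_equiv (quotQuotEquiv (W := WQ) K1 K2 h12)] at h1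
  exact h1

end Descend

end Groth.Agent.Lib.Helper14.CMMod
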