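import Mathlib
import Groth.Agent.Lib.Helper14.CMMod.Fib

/-!
# A fibrewise regular sequence from a Cohen–Macaulay fibre module (helper14)
-/

set_option autoImplicit false
set_option linter.style.haveILetI false
set_option linter.unusedSectionVars false
universe u

open IsLocalRing TensorProduct RingTheory.Sequence

namespace Groth.Agent.Lib.Helper14.CMMod

theorem image_get_lt' {α : Type*} (l : List α) (k : Fin l.length) :
    l.get '' {j | j < k} = {b | b ∈ l.take k} := by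
  ext b
  simp only [Set.mem_image, Set.mem_setOf_eq, List.mem_take_iff_getElem]
  constructor
  · rintro ⟨j, hj, rfl⟩
    have : (j : ℕ) < k := hj
    exact ⟨j, by have := j.2; omega, rfl⟩
  · rintro ⟨i, hi, rfl⟩
    have hi' : i < l.length := by omega
    refine ⟨⟨i, hi'⟩, ?_, rfl⟩
    show (⟨i, hi'⟩ : Fin l.length) < k
    rw [Fin.lt_def]
    show i < k
    omega

section CMSeq

variable {R : Type u} [CommRing R] [IsLocalRing R] [IsNoetherianRing R]
  {M : Type u} [AddCommGroup M] [Module R M] [Module.Finite R M]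

/-- a maximal regular sequence on a Cohen–Macaulay module. -/
theorem exists_regular_seq_module (hM : LocCoh.IsCohenMacaulayModule R M) :
    ∃ rs : List R, (∀ r ∈ rs, r ∈ maximalIdeal R) ∧ IsWeaklyRegular M rs ∧
      Module.supportDim R (M ⧸ Ideal.ofList rs • (⊤ : Submodule R M)) = 0 := by
  haveI := Groth.Agent.Lib.Helper4.cm_nontrivial hM
  obtain ⟨d, hd⟩ := Groth.Agent.Lib.Helper4.exists_nat_depth (R := R) (M := M)
  have hne : maximalIdeal R • (⊤ : Submodule R M) ≠ ⊤ :=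
    Groth.Agent.Lib.Helper4.maximalIdeal_smul_top_ne_top
  obtain ⟨rs, hlen, hmem, hreg⟩ :=
    Groth.Agent.Lib.Helper4.exists_isWeaklyRegular_of_le_idealDepth (maximalIdeal R) hne d
      (by
        have : LocCoh.idealDepth (maximalIdeal R) M = (d : ℕ∞) := hd
        rw [this])
  refine ⟨rs, hmem, hreg, ?_⟩
  have h1 := Module.supportDim_add_length_eq_supportDim_of_isRegular rs
    (IsRegular.of_isWeaklyRegular_of_mem_maximalIdeal M hmem hreg)
  rw [hM, hd, hlen] at h1
  -- `x + d = d` in `WithBot ℕ∞` with `d` a natural number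
  generalize Module.supportDim R (M ⧸ Ideal.ofList rs • (⊤ : Submodule R M)) = x at h1
  induction x using WithBot.recBotCoe with
  | bot => simp at h1
  | coe x =>
    induction x using ENat.recTopCoe with
    | top =>
      exfalso
      have h2 : ((⊤ : ℕ∞) : WithBot ℕ∞) + ((d : ℕ) : WithBot ℕ∞) = ((⊤ : ℕ∞) : WithBot ℕ∞) := by
        rw [← WithBot.coe_natCast, ← WithBot.coe_add, top_add]
      rw [h2] at h1
      have h3 : (⊤ : ℕ∞) = ((d : ℕ) : ℕ∞) := by exact_mod_cast h1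
      exact ENat.top_ne_coe d h3
    | coe x =>
      have h2 : x + d = d := by exact_mod_cast h1
      have : x = 0 := by omega
      subst this
      rfl

/-- on a Cohen–Macaulay module, weak regularity of a sequence in the maximal ideal only depends
on the ideal it generates and on its length. -/
theorem isWeaklyRegular_of_ofList_eq (hM : LocCoh.IsCohenMacaulayModule R M) (rs ts : List R)
    (hrs : ∀ r ∈ rs, r ∈ maximalIdeal R) (hts : ∀ r ∈ ts, r ∈ maximalIdeal R)
    (hlen : ts.length = rs.length) (hI : Ideal.ofList ts = Ideal.ofList rs)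
    (hreg : IsWeaklyRegular M rs) : IsWeaklyRegular M ts := by
  have h1 := ((Groth.Agent.Lib.Helper4.cm_isWeaklyRegular_iff_supportDim hM rs hrs).1).1 hreg
  refine ((Groth.Agent.Lib.Helper4.cm_isWeaklyRegular_iff_supportDim hM ts hts).1).2 ?_
  rw [hI, hlen]
  exact h1

end CMSeq

section FibSeq

variable (A B : Type u) [CommRing A] [CommRing B] [Algebra A B] [Algebra.FiniteType A B]
  (N : Type u) [AddCommGroup N] [Module B N] [Module.Finite B N] (Q : Ideal B) [Q.IsPrime]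

local notation "LQ" => Localization.AtPrime Q
local notation "WQ" => LocalizedModule (Ideal.primeCompl Q) N
local notation "K1" => Ideal.map (algebraMap A (Localization.AtPrime Q))
  (Ideal.comap (algebraMap A B) Q)
local notation "pB" => Ideal.map (algebraMap A B) (Ideal.comap (algebraMap A B) Q)

instance isScalarTower_B_quot :
    IsScalarTower B (LQ ⧸ K1) (WQ ⧸ K1 • (⊤ : Submodule LQ WQ)) := by
  refine IsScalarTower.of_algebraMap_smul (R := B) (A := LQ ⧸ K1)
    (M := WQ ⧸ K1 • (⊤ : Submodule LQ WQ)) fun b m => ?_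
  induction m using Submodule.Quotient.induction_on with
  | H w =>
    show (algebraMap B (LQ ⧸ K1) b) •
        (Submodule.Quotient.mk w : WQ ⧸ K1 • (⊤ : Submodule LQ WQ)) =
      b • (Submodule.Quotient.mk w : WQ ⧸ K1 • (⊤ : Submodule LQ WQ))
    rw [IsScalarTower.algebraMap_apply B LQ (LQ ⧸ K1), Ideal.Quotient.algebraMap_eq,
      Module.Quotient.mk_smul_mk, algebraMap_smul]
    rfl

theorem map_pB_eq : Ideal.map (algebraMap B LQ) pB = K1 := by
  rw [Ideal.map_map, ← IsScalarTower.algebraMap_eq]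

/-- membership in `(pB ⊔ J) W` is membership of the image in `J (W / K₁ W)`. -/
theorem mem_sup_smul_iff (J : Ideal B) (x : WQ) :
    x ∈ (pB ⊔ J) • (⊤ : Submodule B WQ) ↔
      (Submodule.Quotient.mk x : WQ ⧸ K1 • (⊤ : Submodule LQ WQ)) ∈
        J • (⊤ : Submodule B (WQ ⧸ K1 • (⊤ : Submodule LQ WQ))) := by
  let f : WQ →ₗ[B] (WQ ⧸ K1 • (⊤ : Submodule LQ WQ)) :=
    (K1 • (⊤ : Submodule LQ WQ)).mkQ.restrictScalars B
  have hf : ∀ y, f y = Submodule.Quotient.mk y := fun y => rfl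
  have hfs : Function.Surjective f := Submodule.mkQ_surjective _
  have hker : ∀ y, f y = 0 ↔ y ∈ pB • (⊤ : Submodule B WQ) := by
    intro y
    rw [hf, Submodule.Quotient.mk_eq_zero, ← map_pB_eq A B Q]
    exact mem_map_smul_top_iff' (A := B) (R := LQ) pB y
  have hmap : (J • (⊤ : Submodule B WQ)).map f =
      J • (⊤ : Submodule B (WQ ⧸ K1 • (⊤ : Submodule LQ WQ))) := by
    rw [Submodule.map_smul'', Submodule.map_top, LinearMap.range_eq_top.2 hfs]
  rw [← hf, ← hmap, Submodule.sup_smul]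
  constructor
  · intro hx
    obtain ⟨y, hy, z, hz, rfl⟩ := Submodule.mem_sup.1 hx
    rw [map_add, (hker y).2 hy, zero_add]
    exact Submodule.mem_map_of_mem hz
  · intro hx
    obtain ⟨z, hz, hzx⟩ := Submodule.mem_map.1 hx
    have h1 : x - z ∈ pB • (⊤ : Submodule B WQ) := by
      rw [← hker, map_sub, hzx, sub_self]
    have : x = (x - z) + z := by abel
    rw [this]
    exact Submodule.add_mem_sup h1 hz

set_option maxHeartbeats 1600000 in
/-- **the fibrewise regular sequence.** -/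
theorem exists_fibre_seq
    (hcm : LocCoh.IsCohenMacaulayModule LQ (WQ ⧸ K1 • (⊤ : Submodule LQ WQ))) :
    ∃ g : List B, (∀ b ∈ g, b ∈ Q) ∧
      (∀ (k : Fin g.length) (w : WQ),
        g.get k • w ∈ (pB ⊔ Ideal.span (g.get '' {j : Fin g.length | j < k})) •
          (⊤ : Submodule B WQ) →
        w ∈ (pB ⊔ Ideal.span (g.get '' {j : Fin g.length | j < k})) •
          (⊤ : Submodule B WQ)) ∧
      (∀ 𝔯 : PrimeSpectrum LQ, K1 ≤ 𝔯.asIdeal → (∀ b ∈ g, algebraMap B LQ b ∈ 𝔯.asIdeal) →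
        𝔯 ∈ Module.support LQ WQ → 𝔯.asIdeal = maximalIdeal LQ) := by
  haveI lL : IsLocalRing (LQ ⧸ K1) := isLocalRing_fibLocRing A B Q
  haveI nL : IsNoetherianRing (LQ ⧸ K1) := isNoetherianRing_fibLocRing A B Q
  have hsurj : Function.Surjective (algebraMap LQ (LQ ⧸ K1)) := Ideal.Quotient.mk_surjective
  haveI : Module.Finite (LQ ⧸ K1) (WQ ⧸ K1 • (⊤ : Submodule LQ WQ)) :=
    Module.Finite.of_restrictScalars_finite LQ _ _
  have hcm' : LocCoh.IsCohenMacaulayModule (LQ ⧸ K1) (WQ ⧸ K1 • (⊤ : Submodule LQ WQ)) :=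
    (cm_iff_of_surjective (R := LQ) (R' := LQ ⧸ K1) hsurj _).1 hcm
  obtain ⟨rs, hrsm, hrsreg, hrsdim⟩ := exists_regular_seq_module hcm'
  -- lifting elements of the maximal ideal up to units
  have key : ∀ r : LQ ⧸ K1, ∃ b s : B, r ∈ maximalIdeal (LQ ⧸ K1) →
      b ∈ Q ∧ s ∉ Q ∧ r * algebraMap B (LQ ⧸ K1) s = algebraMap B (LQ ⧸ K1) b := by
    intro r
    obtain ⟨l, rfl⟩ := Ideal.Quotient.mk_surjective r
    obtain ⟨b, s, rfl⟩ := IsLocalization.exists_mk'_eq Q.primeCompl l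
    refine ⟨b, s.1, fun hr => ⟨?_, s.2, ?_⟩⟩
    · have h1 : (IsLocalization.mk' LQ b s) ∈ maximalIdeal LQ :=
        (mem_maximalIdeal_of_surjective (R := LQ) (R' := LQ ⧸ K1) hsurj).1 hr
      exact (IsLocalization.AtPrime.mk'_mem_maximal_iff LQ Q b s).1 h1
    · rw [IsScalarTower.algebraMap_apply B LQ (LQ ⧸ K1), IsScalarTower.algebraMap_apply B LQ (LQ ⧸ K1),
        Ideal.Quotient.algebraMap_eq, ← map_mul, IsLocalization.mk'_spec]
  choose fb fs hf using key
  set g : List B := rs.map fb with hg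
  set ts : List (LQ ⧸ K1) := g.map (algebraMap B (LQ ⧸ K1)) with hts
  have hts_eq : ∀ x ∈ ts, ∃ r ∈ rs, x = r * algebraMap B (LQ ⧸ K1) (fs r) := by
    intro x hx
    rw [hts, hg, List.map_map] at hx
    obtain ⟨r, hr, rfl⟩ := List.mem_map.1 hx
    exact ⟨r, hr, ((hf r (hrsm r hr)).2.2).symm⟩
  have hunit : ∀ r ∈ rs, IsUnit (algebraMap B (LQ ⧸ K1) (fs r)) := by
    intro r hr
    rw [IsScalarTower.algebraMap_apply B LQ (LQ ⧸ K1)]
    exact (IsLocalization.map_units LQ (⟨fs r, (hf r (hrsm r hr)).2.1⟩ : Q.primeCompl)).map _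
  have htsm : ∀ x ∈ ts, x ∈ maximalIdeal (LQ ⧸ K1) := by
    intro x hx
    obtain ⟨r, hr, rfl⟩ := hts_eq x hx
    exact Ideal.mul_mem_right _ _ (hrsm r hr)
  have hlen : ts.length = rs.length := by rw [hts, hg, List.length_map, List.length_map]
  have hI : Ideal.ofList ts = Ideal.ofList rs := by
    apply le_antisymm
    · rw [Ideal.ofList, Ideal.span_le]
      intro x hx
      obtain ⟨r, hr, rfl⟩ := hts_eq x hx
      exact Ideal.mul_mem_right _ _ (Ideal.subset_span hr)
    · rw [Ideal.ofList, Ideal.span_le]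
      intro r hr
      have h1 : r * algebraMap B (LQ ⧸ K1) (fs r) ∈ Ideal.ofList ts := by
        refine Ideal.subset_span ?_
        rw [hts, hg, List.map_map]
        exact List.mem_map.2 ⟨r, hr, (hf r (hrsm r hr)).2.2.symm⟩
      obtain ⟨u, hu⟩ := hunit r hr
      have h2 : r = (r * algebraMap B (LQ ⧸ K1) (fs r)) * ↑u⁻¹ := by
        rw [← hu, mul_assoc, Units.mul_inv, mul_one]
      rw [SetLike.mem_coe, h2]
      exact Ideal.mul_mem_right _ _ h1
  have htsreg : IsWeaklyRegular (WQ ⧸ K1 • (⊤ : Submodule LQ WQ)) ts :=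
    isWeaklyRegular_of_ofList_eq hcm' rs ts hrsm htsm hlen hI hrsreg
  have hgreg : IsWeaklyRegular (WQ ⧸ K1 • (⊤ : Submodule LQ WQ)) g :=
    (isWeaklyRegular_map_algebraMap_iff (LQ ⧸ K1) _ g).1 htsreg
  have hgQ : ∀ b ∈ g, b ∈ Q := by
    intro b hb
    rw [hg] at hb
    obtain ⟨r, hr, rfl⟩ := List.mem_map.1 hb
    exact (hf r (hrsm r hr)).1
  refine ⟨g, hgQ, ?_, ?_⟩
  · intro k w hw
    rw [image_get_lt'] at hw ⊢
    rw [mem_sup_smul_iff] at hw ⊢
    have h2 := (isWeaklyRegular_iff _ _).mp hgreg k k.2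
    rw [isSMulRegular_quotient_iff_mem_of_smul_mem] at h2
    refine h2 _ ?_
    rw [← Submodule.Quotient.mk_smul]
    exact hw
  · intro 𝔯 hK hmem hsupp
    have h1 : 𝔯 ∈ Module.support LQ (WQ ⧸ K1 • (⊤ : Submodule LQ WQ)) := by
      rw [Module.support_quotient]
      exact ⟨hsupp, (PrimeSpectrum.mem_zeroLocus _ _).2 hK⟩
    obtain ⟨𝔯', h𝔯'⟩ := exists_comap_eq_of_mem_support (R := LQ) (R' := LQ ⧸ K1) hsurj _ 𝔯 h1
    have h2 : 𝔯' ∈ Module.support (LQ ⧸ K1) (WQ ⧸ K1 • (⊤ : Submodule LQ WQ)) := by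
      rw [← mem_support_comap_iff (R := LQ) (R' := LQ ⧸ K1) hsurj, h𝔯']
      exact h1
    have h3 : 𝔯' ∈ Module.support (LQ ⧸ K1) ((WQ ⧸ K1 • (⊤ : Submodule LQ WQ)) ⧸
        Ideal.ofList ts • (⊤ : Submodule (LQ ⧸ K1) (WQ ⧸ K1 • (⊤ : Submodule LQ WQ)))) := by
      rw [Module.support_quotient]
      refine ⟨h2, ?_⟩
      rw [PrimeSpectrum.mem_zeroLocus, Ideal.ofList, SetLike.coe_subset_coe, Ideal.span_le]
      intro x hx
      rw [hts] at hx
      obtain ⟨b, hb, rfl⟩ := List.mem_map.1 hx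
      rw [IsScalarTower.algebraMap_apply B LQ (LQ ⧸ K1)]
      have h4 : algebraMap B LQ b ∈ (PrimeSpectrum.comap (algebraMap LQ (LQ ⧸ K1)) 𝔯').asIdeal := by
        rw [h𝔯']
        exact hmem b hb
      exact h4
    rw [hI, support_of_supportDim_eq_zero _ _ hrsdim, PrimeSpectrum.mem_zeroLocus,
      SetLike.coe_subset_coe] at h3
    have h5 : 𝔯'.asIdeal = maximalIdeal (LQ ⧸ K1) :=
      ((maximalIdeal.isMaximal (LQ ⧸ K1)).eq_of_le 𝔯'.2.ne_top h3).symm
    rw [← h𝔯']
    ext x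
    change algebraMap LQ (LQ ⧸ K1) x ∈ 𝔯'.asIdeal ↔ _
    rw [h5]
    exact mem_maximalIdeal_of_surjective (R := LQ) (R' := LQ ⧸ K1) hsurj

end FibSeq

end Groth.Agent.Lib.Helper14.CMMod
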