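import Mathlib
import Groth.Agent.Lib.Helper14.CMMod.Seq
import Groth.Agent.Lib.Helper14.CMMod.CoprofAlg

/-!
# A fibrewise regular sequence and system of parameters from a fibre module of bounded codepth
(helper14)
-/

set_option autoImplicit false
set_option linter.style.haveILetI false
set_option linter.unusedSectionVars false
universe u

open IsLocalRing TensorProduct RingTheory.Sequence

namespace Groth.Agent.Lib.Helper14.CMMod

section FibSeq

variable (A B : Type u) [CommRing A] [CommRing B] [Algebra A B] [Algebra.FiniteType A B]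
  (N : Type u) [AddCommGroup N] [Module B N] [Module.Finite B N] (Q : Ideal B) [Q.IsPrime]

local notation "LQ" => Localization.AtPrime Q
local notation "WQ" => LocalizedModule (Ideal.primeCompl Q) N
local notation "K1" => Ideal.map (algebraMap A (Localization.AtPrime Q))
  (Ideal.comap (algebraMap A B) Q)
local notation "pB" => Ideal.map (algebraMap A B) (Ideal.comap (algebraMap A B) Q)

set_option maxHeartbeats 3200000 in
/-- **the fibrewise regular sequence and system of parameters.** -/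
theorem exists_fibre_seq_cp (n : ℕ)
    (hnt : Nontrivial (WQ ⧸ K1 • (⊤ : Submodule LQ WQ)))
    (hcp : CPq n LQ WQ K1) :
    ∃ g h : List B, (∀ b ∈ g, b ∈ Q) ∧ (∀ b ∈ h, b ∈ Q) ∧ h.length ≤ n ∧
      (∀ (k : Fin g.length) (w : WQ),
        g.get k • w ∈ (pB ⊔ Ideal.span (g.get '' {j : Fin g.length | j < k})) •
          (⊤ : Submodule B WQ) →
        w ∈ (pB ⊔ Ideal.span (g.get '' {j : Fin g.length | j < k})) •
          (⊤ : Submodule B WQ)) ∧
      (∀ 𝔯 : PrimeSpectrum LQ, K1 ≤ 𝔯.asIdeal → (∀ b ∈ g, algebraMap B LQ b ∈ 𝔯.asIdeal) →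
        (∀ b ∈ h, algebraMap B LQ b ∈ 𝔯.asIdeal) →
        𝔯 ∈ Module.support LQ WQ → 𝔯.asIdeal = maximalIdeal LQ) := by
  haveI lL : IsLocalRing (LQ ⧸ K1) := isLocalRing_fibLocRing A B Q
  haveI nL : IsNoetherianRing (LQ ⧸ K1) := isNoetherianRing_fibLocRing A B Q
  have hsurj : Function.Surjective (algebraMap LQ (LQ ⧸ K1)) := Ideal.Quotient.mk_surjective
  haveI : Module.Finite (LQ ⧸ K1) (WQ ⧸ K1 • (⊤ : Submodule LQ WQ)) :=
    Module.Finite.of_restrictScalars_finite LQ _ _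
  have hcp' : CP n (LQ ⧸ K1) (WQ ⧸ K1 • (⊤ : Submodule LQ WQ)) :=
    (cp_iff_of_surjective n (R := LQ) (R' := LQ ⧸ K1) hsurj _).1 hcp
  -- the regular sequence
  obtain ⟨d, hd⟩ := Groth.Agent.Lib.Helper4.exists_nat_depth (R := LQ ⧸ K1)
    (M := WQ ⧸ K1 • (⊤ : Submodule LQ WQ))
  have hne : maximalIdeal (LQ ⧸ K1) • (⊤ : Submodule (LQ ⧸ K1) (WQ ⧸ K1 • (⊤ : Submodule LQ WQ)))
      ≠ ⊤ := Groth.Agent.Lib.Helper4.maximalIdeal_smul_top_ne_top
  obtain ⟨rs, hlen, hrsm, hrsreg⟩ :=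
    Groth.Agent.Lib.Helper4.exists_isWeaklyRegular_of_le_idealDepth (maximalIdeal (LQ ⧸ K1)) hne d
      (by
        have : LocCoh.idealDepth (maximalIdeal (LQ ⧸ K1)) (WQ ⧸ K1 • (⊤ : Submodule LQ WQ)) =
          (d : ℕ∞) := hd
        rw [this])
  have hdim1 := Module.supportDim_add_length_eq_supportDim_of_isRegular rs
    (IsRegular.of_isWeaklyRegular_of_mem_maximalIdeal (WQ ⧸ K1 • (⊤ : Submodule LQ WQ))
      hrsm hrsreg)
  have hdimU : Module.supportDim (LQ ⧸ K1) ((WQ ⧸ K1 • (⊤ : Submodule LQ WQ)) ⧸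
      Ideal.ofList rs • (⊤ : Submodule (LQ ⧸ K1) (WQ ⧸ K1 • (⊤ : Submodule LQ WQ)))) ≤
      ((n : ℕ∞) : WithBot ℕ∞) := by
    unfold CP at hcp'
    rw [← hdim1, hd, hlen] at hcp'
    generalize Module.supportDim (LQ ⧸ K1) ((WQ ⧸ K1 • (⊤ : Submodule LQ WQ)) ⧸
      Ideal.ofList rs • (⊤ : Submodule (LQ ⧸ K1) (WQ ⧸ K1 • (⊤ : Submodule LQ WQ)))) = x at hcp'
    induction x using WithBot.recBotCoe with
    | bot => exact bot_le
    | coe x =>
      induction x using ENat.recTopCoe with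
      | top =>
        exfalso
        have h2 : ((⊤ : ℕ∞) : WithBot ℕ∞) + ((d : ℕ) : WithBot ℕ∞) = ((⊤ : ℕ∞) : WithBot ℕ∞) := by
          rw [← WithBot.coe_natCast, ← WithBot.coe_add, top_add]
        rw [h2] at hcp'
        have h3 : (⊤ : ℕ∞) ≤ ((d + n : ℕ) : ℕ∞) := by exact_mod_cast hcp'
        exact absurd h3 (by simp)
      | coe x =>
        have h2 : x + d ≤ d + n := by exact_mod_cast hcp'
        exact_mod_cast (by omega : x ≤ n)
  -- the system of parameters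
  obtain ⟨hs, hhsm, hhslen, hhsdim⟩ := exists_sop n _ hdimU
  -- lifting elements of the maximal ideal up to units
  have key : ∀ r : LQ ⧸ K1, ∃ b s : B, r ∈ maximalIdeal (LQ ⧸ K1) →
      b ∈ Q ∧ s ∉ Q ∧ r * algebraMap B (LQ ⧸ K1) s = algebraMap B (LQ ⧸ K1) b := by
    intro r
    obtain ⟨l, rfl⟩ := Ideal.Quotient.mk_surjective r
    obtain ⟨b, s, rfl⟩ := IsLocalization.exists_mk'_eq Q.primeCompl l
    refine ⟨b, s.1, fun hr => ⟨?_, s.2, ?_⟩⟩
    · have h1 : (IsLocalization.mk' LQ b s) ∈ maximalIdeal LQ :=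
        (mem_maximalIdeal_of_surjective (R := LQ) (R' := LQ ⧸ K1) hsurj).1 hr
      exact (IsLocalization.AtPrime.mk'_mem_maximal_iff LQ Q b s).1 h1
    · rw [IsScalarTower.algebraMap_apply B LQ (LQ ⧸ K1), IsScalarTower.algebraMap_apply B LQ (LQ ⧸ K1),
        Ideal.Quotient.algebraMap_eq, ← map_mul, IsLocalization.mk'_spec]
  choose fb fs hf using key
  set F : (LQ ⧸ K1) → (LQ ⧸ K1) := fun r => algebraMap B (LQ ⧸ K1) (fb r) with hF
  have hFu : ∀ r, r ∈ maximalIdeal (LQ ⧸ K1) → ∃ u : LQ ⧸ K1, IsUnit u ∧ F r = r * u := by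
    intro r hr
    refine ⟨algebraMap B (LQ ⧸ K1) (fs r), ?_, ((hf r hr).2.2).symm⟩
    rw [IsScalarTower.algebraMap_apply B LQ (LQ ⧸ K1)]
    exact (IsLocalization.map_units LQ (⟨fs r, (hf r hr).2.1⟩ : Q.primeCompl)).map _
  set g : List B := rs.map fb with hg
  set h : List B := hs.map fb with hh
  have hgts : g.map (algebraMap B (LQ ⧸ K1)) = rs.map F := by rw [hg, List.map_map]; rfl
  have hhts : h.map (algebraMap B (LQ ⧸ K1)) = hs.map F := by rw [hh, List.map_map]; rfl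
  have htsreg : IsWeaklyRegular (WQ ⧸ K1 • (⊤ : Submodule LQ WQ)) (rs.map F) :=
    isWeaklyRegular_map_of_unit rs F (fun r hr => hFu r (hrsm r hr)) hrsreg
  have hgreg : IsWeaklyRegular (WQ ⧸ K1 • (⊤ : Submodule LQ WQ)) g := by
    rw [← hgts] at htsreg
    exact (isWeaklyRegular_map_algebraMap_iff (LQ ⧸ K1) _ g).1 htsreg
  have hIg : Ideal.ofList (rs.map F) = Ideal.ofList rs :=
    ofList_map_eq_of_unit rs F (fun r hr => hFu r (hrsm r hr))
  have hIh : Ideal.ofList (hs.map F) = Ideal.ofList hs :=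
    ofList_map_eq_of_unit hs F (fun r hr => hFu r (hhsm r hr))
  have hgQ : ∀ b ∈ g, b ∈ Q := by
    intro b hb
    rw [hg] at hb
    obtain ⟨r, hr, rfl⟩ := List.mem_map.1 hb
    exact (hf r (hrsm r hr)).1
  have hhQ : ∀ b ∈ h, b ∈ Q := by
    intro b hb
    rw [hh] at hb
    obtain ⟨r, hr, rfl⟩ := List.mem_map.1 hb
    exact (hf r (hhsm r hr)).1
  refine ⟨g, h, hgQ, hhQ, by rw [hh, List.length_map]; exact hhslen, ?_, ?_⟩
  · intro k w hw
    rw [image_get_lt'] at hw ⊢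
    rw [mem_sup_smul_iff] at hw ⊢
    have h2 := (isWeaklyRegular_iff _ _).mp hgreg k k.2
    rw [isSMulRegular_quotient_iff_mem_of_smul_mem] at h2
    refine h2 _ ?_
    rw [← Submodule.Quotient.mk_smul]
    exact hw
  · intro 𝔯 hK hmemg hmemh hsupp
    have h1 : 𝔯 ∈ Module.support LQ (WQ ⧸ K1 • (⊤ : Submodule LQ WQ)) := by
      rw [Module.support_quotient]
      exact ⟨hsupp, (PrimeSpectrum.mem_zeroLocus _ _).2 hK⟩
    obtain ⟨𝔯', h𝔯'⟩ := exists_comap_eq_of_mem_support (R := LQ) (R' := LQ ⧸ K1) hsurj _ 𝔯 h1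
    have h2 : 𝔯' ∈ Module.support (LQ ⧸ K1) (WQ ⧸ K1 • (⊤ : Submodule LQ WQ)) := by
      rw [← mem_support_comap_iff (R := LQ) (R' := LQ ⧸ K1) hsurj, h𝔯']
      exact h1
    have hin : ∀ l : List B, (∀ b ∈ l, algebraMap B LQ b ∈ 𝔯.asIdeal) →
        Ideal.ofList (l.map (algebraMap B (LQ ⧸ K1))) ≤ 𝔯'.asIdeal := by
      intro l hl
      rw [Ideal.ofList, Ideal.span_le]
      intro x hx
      obtain ⟨b, hb, rfl⟩ := List.mem_map.1 hx
      rw [IsScalarTower.algebraMap_apply B LQ (LQ ⧸ K1)]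
      have h4 : algebraMap B LQ b ∈ (PrimeSpectrum.comap (algebraMap LQ (LQ ⧸ K1)) 𝔯').asIdeal := by
        rw [h𝔯']
        exact hl b hb
      exact h4
    have h3 : 𝔯' ∈ Module.support (LQ ⧸ K1) ((WQ ⧸ K1 • (⊤ : Submodule LQ WQ)) ⧸
        Ideal.ofList rs • (⊤ : Submodule (LQ ⧸ K1) (WQ ⧸ K1 • (⊤ : Submodule LQ WQ)))) := by
      rw [Module.support_quotient]
      refine ⟨h2, ?_⟩
      rw [PrimeSpectrum.mem_zeroLocus, SetLike.coe_subset_coe, ← hIg, ← hgts]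
      exact hin g hmemg
    have h4 : 𝔯' ∈ Module.support (LQ ⧸ K1) (((WQ ⧸ K1 • (⊤ : Submodule LQ WQ)) ⧸
        Ideal.ofList rs • (⊤ : Submodule (LQ ⧸ K1) (WQ ⧸ K1 • (⊤ : Submodule LQ WQ)))) ⧸
        Ideal.ofList hs • (⊤ : Submodule (LQ ⧸ K1) ((WQ ⧸ K1 • (⊤ : Submodule LQ WQ)) ⧸
        Ideal.ofList rs • (⊤ : Submodule (LQ ⧸ K1) (WQ ⧸ K1 • (⊤ : Submodule LQ WQ)))))) := by
      rw [Module.support_quotient]
      refine ⟨h3, ?_⟩
      rw [PrimeSpectrum.mem_zeroLocus, SetLike.coe_subset_coe, ← hIh, ← hhts]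
      exact hin h hmemh
    have hnt4 : Nontrivial (((WQ ⧸ K1 • (⊤ : Submodule LQ WQ)) ⧸
        Ideal.ofList rs • (⊤ : Submodule (LQ ⧸ K1) (WQ ⧸ K1 • (⊤ : Submodule LQ WQ)))) ⧸
        Ideal.ofList hs • (⊤ : Submodule (LQ ⧸ K1) ((WQ ⧸ K1 • (⊤ : Submodule LQ WQ)) ⧸
        Ideal.ofList rs • (⊤ : Submodule (LQ ⧸ K1) (WQ ⧸ K1 • (⊤ : Submodule LQ WQ)))))) := by
      by_contra hcon
      rw [not_nontrivial_iff_subsingleton] at hcon
      rw [Module.support_eq_empty_iff.2 hcon] at h4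
      exact h4
    have hdim0 : Module.supportDim (LQ ⧸ K1) (((WQ ⧸ K1 • (⊤ : Submodule LQ WQ)) ⧸
        Ideal.ofList rs • (⊤ : Submodule (LQ ⧸ K1) (WQ ⧸ K1 • (⊤ : Submodule LQ WQ)))) ⧸
        Ideal.ofList hs • (⊤ : Submodule (LQ ⧸ K1) ((WQ ⧸ K1 • (⊤ : Submodule LQ WQ)) ⧸
        Ideal.ofList rs • (⊤ : Submodule (LQ ⧸ K1) (WQ ⧸ K1 • (⊤ : Submodule LQ WQ)))))) = 0 := by
      have hb := Module.supportDim_ne_bot_of_nontrivial (LQ ⧸ K1)
        (((WQ ⧸ K1 • (⊤ : Submodule LQ WQ)) ⧸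
        Ideal.ofList rs • (⊤ : Submodule (LQ ⧸ K1) (WQ ⧸ K1 • (⊤ : Submodule LQ WQ)))) ⧸
        Ideal.ofList hs • (⊤ : Submodule (LQ ⧸ K1) ((WQ ⧸ K1 • (⊤ : Submodule LQ WQ)) ⧸
        Ideal.ofList rs • (⊤ : Submodule (LQ ⧸ K1) (WQ ⧸ K1 • (⊤ : Submodule LQ WQ))))))
      exact le_antisymm hhsdim (by
        rw [← WithBot.coe_zero]
        exact WithBot.coe_le_iff.2 (by
          obtain ⟨a, ha⟩ := WithBot.ne_bot_iff_exists.1 hb
          exact ⟨a, ha.symm, bot_le⟩))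
    rw [support_of_supportDim_eq_zero _ _ hdim0, PrimeSpectrum.mem_zeroLocus,
      SetLike.coe_subset_coe] at h4
    have h5 : 𝔯'.asIdeal = maximalIdeal (LQ ⧸ K1) :=
      ((maximalIdeal.isMaximal (LQ ⧸ K1)).eq_of_le 𝔯'.2.ne_top h4).symm
    rw [← h𝔯']
    ext x
    change algebraMap LQ (LQ ⧸ K1) x ∈ 𝔯'.asIdeal ↔ _
    rw [h5]
    exact mem_maximalIdeal_of_surjective (R := LQ) (R' := LQ ⧸ K1) hsurj

end FibSeq

end Groth.Agent.Lib.Helper14.CMMod
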