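import Mathlib
import Groth.Agent.Lib.Helper14.LCF.QFinSlice

/-!
# Quasi-finiteness near an isolated point of a fibre: incomparability of primes (helper14)
-/

set_option autoImplicit false
set_option linter.style.haveILetI false
set_option linter.unusedSectionVars false
universe u

namespace Groth.Agent.Lib.Helper14.CMMod

open Groth.Agent.Lib.Helper14.LCF

theorem quasiFiniteAt_of_away {R S : Type u} [CommRing R] [CommRing S] [Algebra R S] (r : S)
    [Algebra.QuasiFinite R (Localization.Away r)] (p : Ideal S) [p.IsPrime] (hrp : r ∉ p) :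
    Algebra.QuasiFiniteAt R p := by
  let f : Localization.Away r →ₐ[S] Localization.AtPrime p :=
    IsLocalization.Away.liftAlgHom r (f := Algebra.ofId _ _) <|
      IsLocalization.map_units (M := p.primeCompl) (Localization.AtPrime p) ⟨r, hrp⟩
  refine .of_forall_exists_mul_mem_range (f.restrictScalars R) fun x ↦ ?_
  obtain ⟨x, ⟨s, hs⟩, rfl⟩ := IsLocalization.exists_mk'_eq p.primeCompl x
  exact ⟨algebraMap _ _ s, by simpa using IsLocalization.map_units _ ⟨s, hs⟩,
    algebraMap _ _ x, by simp⟩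

/-- around a point of a finite type algebra which is quasi-finite there, all points are. -/
theorem exists_away_quasiFiniteAt {A D : Type u} [CommRing A] [CommRing D] [Algebra A D]
    [Algebra.FiniteType A D] (q : Ideal D) [q.IsPrime] [Algebra.QuasiFiniteAt A q] :
    ∃ r : D, r ∉ q ∧ ∀ (q' : Ideal D) [q'.IsPrime], r ∉ q' → Algebra.QuasiFiniteAt A q' := by
  obtain ⟨S', hS', r₂, hr₂, H⟩ :=
    Algebra.ZariskisMainProperty.exists_fg_and_exists_notMem_and_awayMap_bijective q
      (Algebra.ZariskisMainProperty.of_finiteType (R := A) q)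
  haveI : Module.Finite A S' := ⟨(Submodule.fg_top _).mpr hS'⟩
  haveI : Algebra.QuasiFinite A (Localization.Away r₂) := .trans _ S' _
  haveI : Algebra.QuasiFinite A (Localization.Away r₂.1) :=
    .of_surjective_algHom (Localization.awayMapₐ S'.val r₂) H.2
  exact ⟨r₂.1, hr₂, fun q' _ hq' => quasiFiniteAt_of_away r₂.1 q' hq'⟩

/-- quotient form: if `Q` is isolated in the fibre of `V(I)` through it, then on a basic open
neighbourhood `D(c')` of `Q` there are no strict inclusions between primes of `V(I)` with the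
same contraction. -/
theorem exists_away_incomparable {A C : Type u} [CommRing A] [CommRing C] [Algebra A C]
    [Algebra.FiniteType A C] (I : Ideal C) (Q : Ideal C) [Q.IsPrime] (hIQ : I ≤ Q)
    (ha : ∀ q' : Ideal C, q'.IsPrime → Q ≤ q' →
      q'.comap (algebraMap A C) = Q.comap (algebraMap A C) → q' = Q)
    (hb : ∀ q' : Ideal C, q'.IsPrime → I ≤ q' → q' ≤ Q →
      q'.comap (algebraMap A C) = Q.comap (algebraMap A C) → q' = Q) :
    ∃ c' : C, c' ∉ Q ∧ ∀ q₁ q₂ : Ideal C, q₁.IsPrime → q₂.IsPrime → I ≤ q₁ → q₁ ≤ q₂ →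
      c' ∉ q₂ → q₁.comap (algebraMap A C) = q₂.comap (algebraMap A C) → q₁ = q₂ := by
  set mk := Ideal.Quotient.mk I with hmk
  have hmks : Function.Surjective mk := Ideal.Quotient.mk_surjective
  have hker : RingHom.ker mk = I := Ideal.mk_ker
  have hcm : ∀ J : Ideal C, I ≤ J → (J.map mk).comap mk = J := by
    intro J hJ
    rw [Ideal.comap_map_of_surjective mk hmks, ← RingHom.ker_eq_comap_bot, hker, sup_eq_left.2 hJ]
  have hmc : ∀ J : Ideal (C ⧸ I), (J.comap mk).map mk = J := fun J =>
    Ideal.map_comap_of_surjective mk hmks J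
  have hIc : ∀ J : Ideal (C ⧸ I), I ≤ J.comap mk := by
    intro J
    exact hker.symm.le.trans (Ideal.ker_le_comap mk)
  have hA : ∀ J : Ideal (C ⧸ I), J.comap (algebraMap A (C ⧸ I)) =
      (J.comap mk).comap (algebraMap A C) := by
    intro J
    rw [Ideal.comap_comap]
    rfl
  haveI hQ' : (Q.map mk).IsPrime := Ideal.map_isPrime_of_surjective hmks (hker.le.trans hIQ)
  haveI : Algebra.QuasiFiniteAt A (Q.map mk) := by
    refine quasiFiniteAt_of_isolated (Q.map mk) ?_ ?_
    · intro q' hq' hle hc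
      haveI := hq'
      have h1 : Q ≤ q'.comap mk := by
        rw [← hcm Q hIQ]
        exact Ideal.comap_mono hle
      have h2 := ha (q'.comap mk) (Ideal.comap_isPrime mk q') h1 (by
        rw [← hA, hc, hA, hcm Q hIQ])
      rw [← hmc q', h2]
    · intro q' hq' hle hc
      haveI := hq'
      have h1 : q'.comap mk ≤ Q := by
        rw [← hcm Q hIQ]
        exact Ideal.comap_mono hle
      have h2 := hb (q'.comap mk) (Ideal.comap_isPrime mk q') (hIc q') h1 (by
        rw [← hA, hc, hA, hcm Q hIQ])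
      rw [← hmc q', h2]
  obtain ⟨r, hr, hqf⟩ := exists_away_quasiFiniteAt (A := A) (Q.map mk)
  obtain ⟨c', rfl⟩ := hmks r
  have hnot : ∀ q' : Ideal C, I ≤ q' → c' ∉ q' → mk c' ∉ q'.map mk := by
    intro q' hq' hc h
    have : c' ∈ (q'.map mk).comap mk := h
    rw [hcm q' hq'] at this
    exact hc this
  refine ⟨c', fun h => hr (Ideal.mem_map_of_mem mk h), ?_⟩
  intro q₁ q₂ hq₁ hq₂ hI₁ h12 hc₂ hcomap
  have hI₂ : I ≤ q₂ := hI₁.trans h12
  haveI : (q₁.map mk).IsPrime := Ideal.map_isPrime_of_surjective hmks (hker.le.trans hI₁)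
  haveI : (q₂.map mk).IsPrime := Ideal.map_isPrime_of_surjective hmks (hker.le.trans hI₂)
  haveI := hqf (q₂.map mk) (hnot q₂ hI₂ hc₂)
  have h1 : q₁.map mk = q₂.map mk := by
    refine Algebra.QuasiFiniteAt.eq_of_le_of_under_eq (R := A) (Ideal.map_mono h12) ?_
    change (q₁.map mk).comap (algebraMap A (C ⧸ I)) = (q₂.map mk).comap (algebraMap A (C ⧸ I))
    rw [hA, hA, hcm q₁ hI₁, hcm q₂ hI₂]
    exact hcomap
  rw [← hcm q₁ hI₁, h1, hcm q₂ hI₂]

end Groth.Agent.Lib.Helper14.CMMod
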