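import Mathlib

/-!
# Making a prime closed in its fibre by adjoining a transcendence basis (helper14)

For a finite type `A`-algebra `B` and a prime `Q` of `B` over `p`, there are `h₁, …, hₑ ∈ B` whose
images in `κ(Q)` form a transcendence basis over `κ(p)`: then `Q ∩ A[Y] = p A[Y]` (for
`Yᵢ ↦ hᵢ`) and `Q` is maximal among the primes of `B` with this contraction to `A[Y]`.
-/

set_option autoImplicit false
set_option linter.style.haveILetI false
set_option linter.unusedSectionVars false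
universe u

open MvPolynomial

namespace Groth.Agent.Lib.Helper14.CMMod

theorem exists_algIndep_lift (A B : Type u) [CommRing A] [CommRing B] [Algebra A B]
    [Algebra.FiniteType A B] (Q : Ideal B) [Q.IsPrime] :
    ∃ (e : ℕ) (hs : Fin e → B),
      (∀ F : MvPolynomial (Fin e) A, MvPolynomial.aeval hs F ∈ Q →
        F ∈ (Q.comap (algebraMap A B)).map (MvPolynomial.C : A →+* MvPolynomial (Fin e) A)) ∧
      (∀ Q' : Ideal B, Q'.IsPrime → Q ≤ Q' →
        (∀ F : MvPolynomial (Fin e) A, MvPolynomial.aeval hs F ∈ Q' →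
          MvPolynomial.aeval hs F ∈ Q) → Q' = Q) := by
  classical
  set p := Q.comap (algebraMap A B) with hp
  haveI : p.IsPrime := Ideal.IsPrime.comap _
  haveI : Q.LiesOver p := ⟨rfl⟩
  haveI : IsDomain (B ⧸ Q) := Ideal.Quotient.isDomain Q
  haveI : IsDomain (A ⧸ p) := Ideal.Quotient.isDomain p
  haveI ft1 : Algebra.FiniteType A (B ⧸ Q) :=
    Algebra.FiniteType.trans (S := B) inferInstance inferInstance
  haveI ft2 : Algebra.FiniteType (A ⧸ p) (B ⧸ Q) :=
    Algebra.FiniteType.of_restrictScalars_finiteType A (A ⧸ p) (B ⧸ Q)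
  obtain ⟨s, hs⟩ := ft2.out
  haveI halg : Algebra.IsAlgebraic (Algebra.adjoin (A ⧸ p) (s : Set (B ⧸ Q))) (B ⧸ Q) := by
    refine ⟨fun a => ?_⟩
    have ha : a ∈ Algebra.adjoin (A ⧸ p) (s : Set (B ⧸ Q)) := by rw [hs]; exact Algebra.mem_top
    exact isAlgebraic_algebraMap (⟨a, ha⟩ : Algebra.adjoin (A ⧸ p) (s : Set (B ⧸ Q)))
  obtain ⟨t, hts, htb⟩ := exists_isTranscendenceBasis_subset (R := A ⧸ p) (s : Set (B ⧸ Q))
  haveI : Finite t := (s.finite_toSet.subset hts).to_subtype
  obtain ⟨e, ⟨eq⟩⟩ := Finite.exists_equiv_fin t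
  -- the reindexed family
  set x : Fin e → B ⧸ Q := fun i => ((eq.symm i : t) : B ⧸ Q) with hx
  have hxind : AlgebraicIndependent (A ⧸ p) x :=
    htb.1.comp eq.symm eq.symm.injective
  have hrange : Set.range x = Set.range ((↑) : t → B ⧸ Q) := by
    ext y
    constructor
    · rintro ⟨i, rfl⟩
      exact ⟨eq.symm i, rfl⟩
    · rintro ⟨z, rfl⟩
      exact ⟨eq z, by simp [hx]⟩
  haveI hxalg : Algebra.IsAlgebraic (Algebra.adjoin (A ⧸ p) (Set.range x)) (B ⧸ Q) := by
    rw [hrange]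
    exact htb.isAlgebraic
  -- lifts
  choose hsB hhsB using fun i => Ideal.Quotient.mk_surjective (x i)
  have hcomp : ∀ G : MvPolynomial (Fin e) A,
      MvPolynomial.aeval x (MvPolynomial.map (algebraMap A (A ⧸ p)) G) =
        Ideal.Quotient.mk Q (MvPolynomial.aeval hsB G) := by
    intro G
    rw [MvPolynomial.aeval_def, MvPolynomial.eval₂_map, MvPolynomial.aeval_def,
      MvPolynomial.eval₂_comp_left]
    congr 1
    funext i
    exact (hhsB i).symm
  refine ⟨e, hsB, ?_, ?_⟩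
  · intro F hF
    have h1 : MvPolynomial.aeval x (MvPolynomial.map (algebraMap A (A ⧸ p)) F) = 0 := by
      rw [hcomp, Ideal.Quotient.eq_zero_iff_mem]
      exact hF
    have h2 : MvPolynomial.map (algebraMap A (A ⧸ p)) F = 0 :=
      (injective_iff_map_eq_zero _).1 (algebraicIndependent_iff_injective_aeval.1 hxind) _ h1
    have h3 : F ∈ RingHom.ker (MvPolynomial.map (algebraMap A (A ⧸ p)) :
        MvPolynomial (Fin e) A →+* MvPolynomial (Fin e) (A ⧸ p)) := h2
    rw [MvPolynomial.ker_map, Ideal.Quotient.algebraMap_eq, Ideal.mk_ker] at h3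
    exact h3
  · intro Q' hQ' hle hcontr
    refine le_antisymm ?_ hle
    intro y hy
    by_contra hyQ
    have hy0 : Ideal.Quotient.mk Q y ≠ 0 := by
      rw [Ne, Ideal.Quotient.eq_zero_iff_mem]
      exact hyQ
    have hyalg : IsAlgebraic (Algebra.adjoin (A ⧸ p) (Set.range x)) (Ideal.Quotient.mk Q y) :=
      hxalg.isAlgebraic _
    obtain ⟨r, hr0, hdvd⟩ := hyalg.exists_nonzero_dvd (mem_nonZeroDivisors_of_ne_zero hy0)
    have hrmem : ∀ z : B ⧸ Q, z ∈ Algebra.adjoin (A ⧸ p) (Set.range x) →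
        ∃ G₀ : MvPolynomial (Fin e) (A ⧸ p), MvPolynomial.aeval x G₀ = z := by
      intro z hz
      rw [Algebra.adjoin_range_eq_range_aeval] at hz
      exact hz
    obtain ⟨G₀, hG₀⟩ := hrmem (r : B ⧸ Q) r.2
    obtain ⟨G, rfl⟩ := MvPolynomial.map_surjective (algebraMap A (A ⧸ p))
      Ideal.Quotient.mk_surjective G₀
    have hG₀' : MvPolynomial.aeval x (MvPolynomial.map (algebraMap A (A ⧸ p)) G) = (r : B ⧸ Q) :=
      hG₀
    rw [hcomp] at hG₀'
    obtain ⟨c, hc⟩ := hdvd
    have hc' : algebraMap (Algebra.adjoin (A ⧸ p) (Set.range x)) (B ⧸ Q) r = (r : B ⧸ Q) := rfl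
    rw [hc', ← hG₀'] at hc
    obtain ⟨c', rfl⟩ := Ideal.Quotient.mk_surjective c
    rw [← map_mul, Ideal.Quotient.eq] at hc
    have h1 : MvPolynomial.aeval hsB G ∈ Q' := by
      have h2 : MvPolynomial.aeval hsB G = (MvPolynomial.aeval hsB G - y * c') + y * c' := by ring
      rw [h2]
      exact Q'.add_mem (hle hc) (Q'.mul_mem_right _ hy)
    have h3 := hcontr G h1
    apply hr0
    have h4 : (r : B ⧸ Q) = 0 := by
      rw [← hG₀', Ideal.Quotient.eq_zero_iff_mem]
      exact h3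
    exact Subtype.ext h4

end Groth.Agent.Lib.Helper14.CMMod
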