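import Mathlib
import Groth.Agent.Lib.Helper14.CMMod.Seq
import Groth.Agent.Lib.Helper14.CMMod.Trans
import Groth.Agent.Lib.Helper14.CMMod.QF
import Groth.Agent.Lib.Helper14.LCF.SliceSeq

/-!
# Openness of the fibrewise Cohen–Macaulay locus of a module: ring level (helper14)
-/

set_option autoImplicit false
set_option linter.style.haveILetI false
set_option linter.unusedSectionVars false
universe u

open IsLocalRing TensorProduct RingTheory.Sequence

namespace Groth.Agent.Lib.Helper14.CMMod

open Groth.Agent.Lib.Helper14.LCF Groth.Agent.Lib.Helper14.FlatOpen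

section Support

variable {B : Type u} [CommRing B] (N : Type u) [AddCommGroup N] [Module B N] [Module.Finite B N]
  (Q : Ideal B) [Q.IsPrime]

/-- primes of the support of `N` below `Q` give primes of the support of `N_Q`. -/
theorem map_mem_support (q' : Ideal B) [q'.IsPrime] (hle : q' ≤ Q)
    (hI : Module.annihilator B N ≤ q')
    (h𝔯 : (q'.map (algebraMap B (Localization.AtPrime Q))).IsPrime) :
    (⟨q'.map (algebraMap B (Localization.AtPrime Q)), h𝔯⟩ :
      PrimeSpectrum (Localization.AtPrime Q)) ∈
      Module.support (Localization.AtPrime Q) (LocalizedModule Q.primeCompl N) := by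
  have h1 : (⟨q', inferInstance⟩ : PrimeSpectrum B) ∈ Module.support B N :=
    Module.mem_support_iff_of_finite.2 hI
  rw [Module.mem_support_iff_exists_annihilator] at h1 ⊢
  obtain ⟨n, hn⟩ := h1
  refine ⟨LocalizedModule.mk n 1, ?_⟩
  intro l hl
  rw [Submodule.mem_annihilator_span_singleton] at hl
  obtain ⟨b, s, rfl⟩ := IsLocalization.exists_mk'_eq Q.primeCompl l
  have h2 : (LocalizedModule.mk (b • n) 1 : LocalizedModule Q.primeCompl N) = 0 := by
    have h3 : algebraMap B (Localization.AtPrime Q) b •
        (LocalizedModule.mk n 1 : LocalizedModule Q.primeCompl N) = 0 := by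
      rw [← IsLocalization.mk'_spec' (Localization.AtPrime Q) b s, mul_smul, hl, smul_zero]
    rwa [algebraMap_smul, LocalizedModule.smul'_mk] at h3
  rw [← LocalizedModule.zero_mk 1, LocalizedModule.mk_eq] at h2
  obtain ⟨t, ht⟩ := h2
  change IsLocalization.mk' (Localization.AtPrime Q) b s ∈
    q'.map (algebraMap B (Localization.AtPrime Q))
  rw [IsLocalization.mk'_mem_map_algebraMap_iff Q.primeCompl]
  refine ⟨t.1, t.2, hn ?_⟩
  rw [Submodule.mem_annihilator_span_singleton, mul_smul]
  simpa [Submonoid.smul_def] using ht

end Support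

section Closed

variable (A B : Type u) [CommRing A] [CommRing B] [Algebra A B] [Algebra.FinitePresentation A B]
  (N : Type u) [AddCommGroup N] [Module B N] [Module.FinitePresentation B N] [Module A N]
  [IsScalarTower A B N] (Q : Ideal B) [Q.IsPrime]

/-- elements of the annihilator of `N` act as zero on `N_Q`, hence lie in every prime of its
support. -/
theorem annihilator_le_comap_of_mem_support (𝔯 : PrimeSpectrum (Localization.AtPrime Q))
    (h𝔯 : 𝔯 ∈ Module.support (Localization.AtPrime Q) (LocalizedModule Q.primeCompl N)) :
    Module.annihilator B N ≤ 𝔯.asIdeal.comap (algebraMap B (Localization.AtPrime Q)) := by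
  intro b hb
  rw [Ideal.mem_comap]
  refine Module.annihilator_le_of_mem_support h𝔯 ?_
  rw [Module.mem_annihilator]
  intro w
  induction w using LocalizedModule.induction_on with
  | h n s =>
    rw [algebraMap_smul, LocalizedModule.smul'_mk, Module.mem_annihilator.1 hb n,
      LocalizedModule.zero_mk]

set_option maxHeartbeats 1600000 in
/-- **openness at a point closed in its fibre.** -/
theorem RM_closed
    (hflat : Module.Flat A (LocalizedModule Q.primeCompl N))
    (hclosed : ∀ Q' : Ideal B, Q'.IsPrime → Q ≤ Q' →
      Q'.comap (algebraMap A B) = Q.comap (algebraMap A B) → Q' = Q)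
    (hcm : LocCoh.IsCohenMacaulayModule (Localization.AtPrime Q)
      (LocalizedModule Q.primeCompl N ⧸
        (Ideal.map (algebraMap A (Localization.AtPrime Q)) (Q.comap (algebraMap A B))) •
          (⊤ : Submodule (Localization.AtPrime Q) (LocalizedModule Q.primeCompl N)))) :
    ∃ c : B, c ∉ Q ∧ ∀ (Q' : Ideal B) [Q'.IsPrime], c ∉ Q' →
      Module.Flat A (LocalizedModule Q'.primeCompl N) ∧
      CMq (Localization.AtPrime Q') (LocalizedModule Q'.primeCompl N)
        (Ideal.map (algebraMap A (Localization.AtPrime Q')) (Q'.comap (algebraMap A B))) := by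
  haveI : Module.Finite B N := inferInstance
  haveI := hflat
  obtain ⟨g, hgQ, hreg, hdim⟩ := exists_fibre_seq A B N Q hcm
  have hgs : ∀ i, g.get i ∈ Q := fun i => hgQ _ (List.get_mem _ _)
  have h0 := flat_mvPolynomial_of_regular_fibre (A := A) Q g.get
    (LocalizedModule.mkLinearMap Q.primeCompl N) hgs hreg
  -- nontriviality and the annihilator
  have hIQ : Module.annihilator B N ≤ Q := by
    haveI := Groth.Agent.Lib.Helper4.cm_nontrivial hcm
    have hnt : Nontrivial (LocalizedModule Q.primeCompl N) := by
      by_contra hne
      rw [not_nontrivial_iff_subsingleton] at hne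
      haveI := hne
      exact not_subsingleton (LocalizedModule Q.primeCompl N ⧸
        (Ideal.map (algebraMap A (Localization.AtPrime Q)) (Q.comap (algebraMap A B))) •
          (⊤ : Submodule (Localization.AtPrime Q) (LocalizedModule Q.primeCompl N)))
        inferInstance
    have : (⟨Q, inferInstance⟩ : PrimeSpectrum B) ∈ Module.support B N :=
      Module.mem_support_iff.2 hnt
    exact Module.annihilator_le_of_mem_support this
  letI aA₂ := mvPolyAlgebra A g.get
  haveI tA₂ := mvPolyAlgebra_isScalarTower A g.get
  haveI fpA₂ := mvPolyAlgebra_finitePresentation A g.get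
  letI mRN := mvPolyModule A g.get N
  haveI tA₂N : IsScalarTower (MvPolynomial (Fin g.length) A) B N :=
    IsScalarTower.of_algebraMap_smul fun r n => rfl
  have heq : ∀ T : Submonoid B, mvPolyModule A g.get (LocalizedModule T N) =
      (inferInstance : Module (MvPolynomial (Fin g.length) A) (LocalizedModule T N)) := by
    intro T
    refine Module.ext' _ _ fun r w => ?_
    exact algebraMap_smul B r w
  rw [heq] at h0
  obtain ⟨c₁, hc₁, hfl⟩ := exists_flatOnD (A := MvPolynomial (Fin g.length) A) (S := B) (N := N)
    Q h0
  -- basic facts about the polynomial algebra structure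
  have hC : ∀ a : A, algebraMap (MvPolynomial (Fin g.length) A) B (MvPolynomial.C a) =
      algebraMap A B a := fun a => by
    change MvPolynomial.aeval g.get (MvPolynomial.C a) = _
    rw [MvPolynomial.aeval_C]
  have hX : ∀ i, algebraMap (MvPolynomial (Fin g.length) A) B (MvPolynomial.X i) = g.get i :=
    fun i => by
      change MvPolynomial.aeval g.get (MvPolynomial.X i) = _
      rw [MvPolynomial.aeval_X]
  have hcomapA : ∀ q' : Ideal B, q'.comap (algebraMap A B) =
      (q'.comap (algebraMap (MvPolynomial (Fin g.length) A) B)).comap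
        (algebraMap A (MvPolynomial (Fin g.length) A)) := by
    intro q'
    rw [Ideal.comap_comap, ← IsScalarTower.algebraMap_eq]
  -- incomparability
  obtain ⟨c₂, hc₂, hinc⟩ := exists_away_incomparable (A := MvPolynomial (Fin g.length) A)
    (Module.annihilator B N) Q hIQ
    (fun q' hq' hle heq' => hclosed q' hq' hle (by rw [hcomapA, heq', ← hcomapA]))
    (by
      intro q' hq' hI hle heq'
      haveI := hq'
      have hdisj : Disjoint (Q.primeCompl : Set B) (q' : Set B) := by
        rw [Set.disjoint_left]
        intro x hx hx'
        exact hx (hle hx')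
      have h𝔯 : (q'.map (algebraMap B (Localization.AtPrime Q))).IsPrime :=
        IsLocalization.isPrime_of_isPrime_disjoint Q.primeCompl _ _ hq' hdisj
      have hsupp := map_mem_support N Q q' hle hI h𝔯
      have hmax := hdim ⟨_, h𝔯⟩ ?_ ?_ hsupp
      · have h1 := IsLocalization.comap_map_of_isPrime_disjoint Q.primeCompl
          (Localization.AtPrime Q) hq' hdisj
        change Ideal.map (algebraMap B (Localization.AtPrime Q)) q' = _ at hmax
        rw [hmax, Localization.AtPrime.comap_maximalIdeal] at h1
        exact h1.symm
      · change Ideal.map (algebraMap A (Localization.AtPrime Q)) _ ≤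
          Ideal.map (algebraMap B (Localization.AtPrime Q)) q'
        rw [IsScalarTower.algebraMap_eq A B (Localization.AtPrime Q), ← Ideal.map_map]
        refine Ideal.map_mono ?_
        rw [Ideal.map_le_iff_le_comap]
        intro a ha
        have h2 : MvPolynomial.C a ∈
            Q.comap (algebraMap (MvPolynomial (Fin g.length) A) B) := by
          rw [Ideal.mem_comap, hC]
          exact ha
        rw [← heq', Ideal.mem_comap, hC] at h2
        exact h2
      · intro b hb
        obtain ⟨i, rfl⟩ := List.mem_iff_get.1 hb
        change algebraMap B (Localization.AtPrime Q) (g.get i) ∈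
          Ideal.map (algebraMap B (Localization.AtPrime Q)) q'
        refine Ideal.mem_map_of_mem _ ?_
        have h2 : MvPolynomial.X i ∈
            Q.comap (algebraMap (MvPolynomial (Fin g.length) A) B) := by
          rw [Ideal.mem_comap, hX]
          exact hgs i
        rw [← heq', Ideal.mem_comap, hX] at h2
        exact h2)
  refine ⟨c₁ * c₂, fun h => (Ideal.IsPrime.mem_or_mem inferInstance h).elim hc₁ hc₂, ?_⟩
  intro Q' _ hcQ'
  have hc₁' : c₁ ∉ Q' := fun h => hcQ' (Ideal.mul_mem_right _ _ h)
  have hc₂' : c₂ ∉ Q' := fun h => hcQ' (Ideal.mul_mem_left _ _ h)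
  have hflA₂ : Module.Flat (MvPolynomial (Fin g.length) A) (LocalizedModule Q'.primeCompl N) :=
    hfl Q' hc₁'
  haveI tAA₂W : IsScalarTower A (MvPolynomial (Fin g.length) A)
      (LocalizedModule Q'.primeCompl N) := by
    refine IsScalarTower.of_algebraMap_smul fun a w => ?_
    rw [← algebraMap_smul B (algebraMap A (MvPolynomial (Fin g.length) A) a) w,
      ← IsScalarTower.algebraMap_apply, algebraMap_smul]
  have hflA : Module.Flat A (LocalizedModule Q'.primeCompl N) := by
    haveI := hflA₂
    exact Module.Flat.trans A (MvPolynomial (Fin g.length) A) _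
  refine ⟨hflA, ?_⟩
  haveI lL : IsLocalRing (EGA4.FibLocRing (MvPolynomial (Fin g.length) A) B Q') :=
    isLocalRing_fibLocRing (MvPolynomial (Fin g.length) A) B Q'
  haveI nL : IsNoetherianRing (EGA4.FibLocRing (MvPolynomial (Fin g.length) A) B Q') :=
    isNoetherianRing_fibLocRing (MvPolynomial (Fin g.length) A) B Q'
  have hcmq2 : CMq (Localization.AtPrime Q') (LocalizedModule Q'.primeCompl N)
      (Ideal.map (algebraMap (MvPolynomial (Fin g.length) A) (Localization.AtPrime Q'))
        (Q'.comap (algebraMap (MvPolynomial (Fin g.length) A) B))) := by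
    refine cmq_of_support_subset _ ?_
    intro 𝔯 hK h𝔯
    have hann := annihilator_le_comap_of_mem_support B N Q' 𝔯 h𝔯
    have hle : 𝔯.asIdeal.comap (algebraMap B (Localization.AtPrime Q')) ≤ Q' := by
      have h5 := Ideal.comap_mono (f := algebraMap B (Localization.AtPrime Q'))
        (IsLocalRing.le_maximalIdeal 𝔯.2.ne_top)
      exact h5.trans (Localization.AtPrime.comap_maximalIdeal (I := Q')).le
    have hcontr : (𝔯.asIdeal.comap (algebraMap B (Localization.AtPrime Q'))).comap
        (algebraMap (MvPolynomial (Fin g.length) A) B) =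
        Q'.comap (algebraMap (MvPolynomial (Fin g.length) A) B) := by
      refine le_antisymm (Ideal.comap_mono hle) ?_
      intro F hF
      rw [Ideal.mem_comap, Ideal.mem_comap, ← IsScalarTower.algebraMap_apply]
      exact hK (Ideal.mem_map_of_mem _ hF)
    have h3 := hinc _ Q' (Ideal.IsPrime.comap _) inferInstance hann hle hc₂' hcontr
    have h4 := IsLocalization.map_comap Q'.primeCompl (Localization.AtPrime Q') 𝔯.asIdeal
    change Ideal.map (algebraMap B (Localization.AtPrime Q'))
      (Ideal.comap (algebraMap B (Localization.AtPrime Q')) 𝔯.asIdeal) = _ at h4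
    rw [h3, Localization.AtPrime.map_eq_maximalIdeal] at h4
    exact h4.symm
  exact cmq_descend A (MvPolynomial (Fin g.length) A) B N Q'
    (isRegularLocalRing_fibLocRing_mvPolynomial A g.length _) hflA₂ hcmq2

end Closed

section FlatTower

variable (A A' B : Type u) [CommRing A] [CommRing A'] [CommRing B] [Algebra A A'] [Algebra A' B]
  [Algebra A B] [IsScalarTower A A' B] [Algebra.FinitePresentation A' B]
  (N : Type u) [AddCommGroup N] [Module B N] [Module.FinitePresentation B N] [Module A N]
  [IsScalarTower A B N] [Module A' N] [IsScalarTower A' B N] (Q : Ideal B) [Q.IsPrime]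

set_option maxHeartbeats 1600000 in
/-- if the contraction of `Q` to `A'` is extended from `A`, flatness of `N_Q` over `A` gives
flatness over `A'` (the fibre ring is a field). -/
theorem flat_of_comap_eq_map
    (hP : Q.comap (algebraMap A' B) = (Q.comap (algebraMap A B)).map (algebraMap A A'))
    (hflat : Module.Flat A (LocalizedModule Q.primeCompl N)) :
    Module.Flat A' (LocalizedModule Q.primeCompl N) := by
  haveI := hflat
  let ψ₀ : Localization.AtPrime (Q.comap (algebraMap A' B)) →+* Localization.AtPrime Q :=
    Localization.localRingHom (Q.comap (algebraMap A' B)) Q (algebraMap A' B) rfl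
  have hψ₀ : ∀ a : A', ψ₀ (algebraMap A' (Localization.AtPrime (Q.comap (algebraMap A' B))) a) =
      algebraMap A' (Localization.AtPrime Q) a := fun a => by
    rw [Localization.localRingHom_to_map, ← IsScalarTower.algebraMap_apply]
  letI aAPL : Algebra (Localization.AtPrime (Q.comap (algebraMap A' B)))
    (Localization.AtPrime Q) := ψ₀.toAlgebra
  letI mAPW : Module (Localization.AtPrime (Q.comap (algebraMap A' B)))
    (LocalizedModule Q.primeCompl N) := Module.compHom (LocalizedModule Q.primeCompl N) ψ₀
  haveI tAPLW : IsScalarTower (Localization.AtPrime (Q.comap (algebraMap A' B)))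
      (Localization.AtPrime Q) (LocalizedModule Q.primeCompl N) :=
    IsScalarTower.of_algebraMap_smul fun r m => rfl
  haveI tA'APW : IsScalarTower A' (Localization.AtPrime (Q.comap (algebraMap A' B)))
      (LocalizedModule Q.primeCompl N) := by
    refine IsScalarTower.of_algebraMap_smul fun a w => ?_
    change ψ₀ (algebraMap A' (Localization.AtPrime (Q.comap (algebraMap A' B))) a) • w = a • w
    rw [hψ₀, algebraMap_smul]
  haveI tAA'W : IsScalarTower A A' (LocalizedModule Q.primeCompl N) := by
    refine IsScalarTower.of_algebraMap_smul fun a w => ?_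
    rw [← algebraMap_smul B (algebraMap A A' a) w,
      ← IsScalarTower.algebraMap_apply, algebraMap_smul]
  haveI tAAPW : IsScalarTower A (Localization.AtPrime (Q.comap (algebraMap A' B)))
      (LocalizedModule Q.primeCompl N) := by
    refine IsScalarTower.of_algebraMap_smul fun a w => ?_
    rw [IsScalarTower.algebraMap_apply A A'
      (Localization.AtPrime (Q.comap (algebraMap A' B))), algebraMap_smul, algebraMap_smul]
  have hmax : (Q.comap (algebraMap A B)).map
      (algebraMap A (Localization.AtPrime (Q.comap (algebraMap A' B)))) =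
      maximalIdeal (Localization.AtPrime (Q.comap (algebraMap A' B))) := by
    rw [IsScalarTower.algebraMap_eq A A' (Localization.AtPrime (Q.comap (algebraMap A' B))),
      ← Ideal.map_map, ← hP]
    exact Localization.AtPrime.map_eq_maximalIdeal
  haveI hM : ((Q.comap (algebraMap A B)).map
      (algebraMap A (Localization.AtPrime (Q.comap (algebraMap A' B))))).IsMaximal := by
    rw [hmax]
    exact maximalIdeal.isMaximal _
  letI := Ideal.Quotient.field ((Q.comap (algebraMap A B)).map
      (algebraMap A (Localization.AtPrime (Q.comap (algebraMap A' B)))))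
  have h1 : Module.Flat (Localization.AtPrime (Q.comap (algebraMap A' B)))
      (LocalizedModule Q.primeCompl N) :=
    flat_of_flat_of_flat_fibre (R := A) (B := A')
      (B' := Localization.AtPrime (Q.comap (algebraMap A' B))) (C := B) (N := N)
      (W := LocalizedModule Q.primeCompl N) Q (LocalizedModule.mkLinearMap Q.primeCompl N)
      (Q.comap (algebraMap A B))
      (by rw [hmax]; exact Localization.AtPrime.map_eq_maximalIdeal.ge) inferInstance
  exact (Module.flat_iff_of_isLocalization (Localization.AtPrime (Q.comap (algebraMap A' B)))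
    (Ideal.primeCompl (Q.comap (algebraMap A' B))) (LocalizedModule Q.primeCompl N)).1 h1

end FlatTower

section General

variable (A B : Type u) [CommRing A] [CommRing B] [Algebra A B] [Algebra.FinitePresentation A B]
  (N : Type u) [AddCommGroup N] [Module B N] [Module.FinitePresentation B N] [Module A N]
  [IsScalarTower A B N] (Q : Ideal B) [Q.IsPrime]

/-- the trivial case: the stalk vanishes near `Q`. -/
theorem RM_zero (h0 : Subsingleton (LocalizedModule Q.primeCompl N)) :
    ∃ c : B, c ∉ Q ∧ ∀ (Q' : Ideal B) [Q'.IsPrime], c ∉ Q' →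
      Subsingleton (LocalizedModule Q'.primeCompl N) := by
  have h1 : (⟨Q, inferInstance⟩ : PrimeSpectrum B) ∉ Module.support B N :=
    Module.notMem_support_iff.2 h0
  rw [Module.mem_support_iff_of_finite, SetLike.not_le_iff_exists] at h1
  obtain ⟨c, hcann, hcQ⟩ := h1
  refine ⟨c, hcQ, ?_⟩
  intro Q' _ hcQ'
  have h2 : (⟨Q', inferInstance⟩ : PrimeSpectrum B) ∉ Module.support B N := by
    rw [Module.mem_support_iff_of_finite]
    exact fun hle => hcQ' (hle hcann)
  exact Module.notMem_support_iff.1 h2

set_option maxHeartbeats 1600000 in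
/-- **openness of the fibrewise Cohen–Macaulay locus of a flat finitely presented module, at a
point.** -/
theorem RM
    (hflat : Module.Flat A (LocalizedModule Q.primeCompl N))
    (hcm : CMq (Localization.AtPrime Q) (LocalizedModule Q.primeCompl N)
      (Ideal.map (algebraMap A (Localization.AtPrime Q)) (Q.comap (algebraMap A B)))) :
    ∃ c : B, c ∉ Q ∧ ∀ (Q' : Ideal B) [Q'.IsPrime], c ∉ Q' →
      Module.Flat A (LocalizedModule Q'.primeCompl N) ∧
      CMq (Localization.AtPrime Q') (LocalizedModule Q'.primeCompl N)
        (Ideal.map (algebraMap A (Localization.AtPrime Q')) (Q'.comap (algebraMap A B))) := by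
  haveI : Module.Finite B N := inferInstance
  rcases hcm with hz | hcm
  · -- the zero case
    have h0 : Subsingleton (LocalizedModule Q.primeCompl N) := by
      rw [Submodule.Quotient.subsingleton_iff] at hz
      have h1 := Submodule.eq_bot_of_le_smul_of_le_jacobson_bot
        (Ideal.map (algebraMap A (Localization.AtPrime Q)) (Q.comap (algebraMap A B)))
        (⊤ : Submodule (Localization.AtPrime Q) (LocalizedModule Q.primeCompl N))
        Module.Finite.fg_top hz.ge
        (by
          rw [IsLocalRing.jacobson_eq_maximalIdeal ⊥ bot_ne_top]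
          exact map_comap_le_maximalIdeal A B Q)
      exact (Submodule.subsingleton_iff (Localization.AtPrime Q)).1
        (subsingleton_of_bot_eq_top h1.symm)
    obtain ⟨c, hc, hall⟩ := RM_zero B N Q h0
    refine ⟨c, hc, ?_⟩
    intro Q' _ hcQ'
    haveI := hall Q' hcQ'
    exact ⟨inferInstance, Or.inl inferInstance⟩
  · obtain ⟨e, hs, h1, h2⟩ := exists_algIndep_lift A B Q
    letI aA₁ := mvPolyAlgebra A hs
    haveI tA₁ := mvPolyAlgebra_isScalarTower A hs
    haveI fpA₁ := mvPolyAlgebra_finitePresentation A hs
    letI mRN := mvPolyModule A hs N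
    haveI tA₁N : IsScalarTower (MvPolynomial (Fin e) A) B N :=
      IsScalarTower.of_algebraMap_smul fun r n => rfl
    have hC : ∀ a : A, algebraMap (MvPolynomial (Fin e) A) B (MvPolynomial.C a) =
        algebraMap A B a := fun a => by
      change MvPolynomial.aeval hs (MvPolynomial.C a) = _
      rw [MvPolynomial.aeval_C]
    have hP : Q.comap (algebraMap (MvPolynomial (Fin e) A) B) =
        (Q.comap (algebraMap A B)).map (algebraMap A (MvPolynomial (Fin e) A)) := by
      refine le_antisymm (fun F hF => h1 F hF) ?_
      rw [Ideal.map_le_iff_le_comap]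
      intro a ha
      rw [Ideal.mem_comap, Ideal.mem_comap, MvPolynomial.algebraMap_eq, hC]
      exact ha
    have hflatA₁ : Module.Flat (MvPolynomial (Fin e) A) (LocalizedModule Q.primeCompl N) :=
      flat_of_comap_eq_map A (MvPolynomial (Fin e) A) B N Q hP hflat
    have hK : Ideal.map (algebraMap (MvPolynomial (Fin e) A) (Localization.AtPrime Q))
        (Q.comap (algebraMap (MvPolynomial (Fin e) A) B)) =
        Ideal.map (algebraMap A (Localization.AtPrime Q)) (Q.comap (algebraMap A B)) := by
      rw [hP, Ideal.map_map, ← IsScalarTower.algebraMap_eq]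
    have hcm₁ : LocCoh.IsCohenMacaulayModule (Localization.AtPrime Q)
        (LocalizedModule Q.primeCompl N ⧸
          (Ideal.map (algebraMap (MvPolynomial (Fin e) A) (Localization.AtPrime Q))
            (Q.comap (algebraMap (MvPolynomial (Fin e) A) B))) •
          (⊤ : Submodule (Localization.AtPrime Q) (LocalizedModule Q.primeCompl N))) := by
      rw [hK]
      exact hcm
    obtain ⟨c, hc, hall⟩ := RM_closed (MvPolynomial (Fin e) A) B N Q hflatA₁
      (fun Q' hQ' hle heq' => h2 Q' hQ' hle (fun F hF => by
        have : F ∈ Q'.comap (algebraMap (MvPolynomial (Fin e) A) B) := hF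
        rw [heq'] at this
        exact this)) hcm₁
    refine ⟨c, hc, ?_⟩
    intro Q' _ hcQ'
    obtain ⟨hfl', hcm'⟩ := hall Q' hcQ'
    haveI tAA₁W : IsScalarTower A (MvPolynomial (Fin e) A)
        (LocalizedModule Q'.primeCompl N) := by
      refine IsScalarTower.of_algebraMap_smul fun a w => ?_
      rw [← algebraMap_smul B (algebraMap A (MvPolynomial (Fin e) A) a) w,
        ← IsScalarTower.algebraMap_apply, algebraMap_smul]
    have hflA : Module.Flat A (LocalizedModule Q'.primeCompl N) := by
      haveI := hfl'
      exact Module.Flat.trans A (MvPolynomial (Fin e) A) _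
    exact ⟨hflA, cmq_descend A (MvPolynomial (Fin e) A) B N Q'
      (isRegularLocalRing_fibLocRing_mvPolynomial A e _) hfl' hcm'⟩

end General

end Groth.Agent.Lib.Helper14.CMMod
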