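import Mathlib
import Groth.Agent.Lib.Helper14.CMMod.Main
import Groth.Agent.Lib.Helper14.CMMod.CoprofSeq
import Groth.Agent.Lib.Helper14.CMMod.CoprofFib

/-!
# Openness of the locus where the fibrewise codepth of a module is bounded: ring level (helper14)
-/

set_option autoImplicit false
set_option linter.style.haveILetI false
set_option linter.unusedSectionVars false
universe u

open IsLocalRing TensorProduct RingTheory.Sequence

namespace Groth.Agent.Lib.Helper14.CMMod

open Groth.Agent.Lib.Helper14.LCF Groth.Agent.Lib.Helper14.FlatOpen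

section Closed

variable (A B : Type u) [CommRing A] [CommRing B] [Algebra A B] [Algebra.FinitePresentation A B]
  (N : Type u) [AddCommGroup N] [Module B N] [Module.FinitePresentation B N] [Module A N]
  [IsScalarTower A B N] (Q : Ideal B) [Q.IsPrime]

/-- if the only prime of the support of `W` containing `K` is the maximal ideal, then `W / K W`
has dimension at most `0`. -/
theorem supportDim_le_zero_of_support_subset {L : Type u} [CommRing L] [IsLocalRing L]
    {W : Type u} [AddCommGroup W] [Module L W] [Module.Finite L W] (K : Ideal L)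
    (hZ : ∀ 𝔯 : PrimeSpectrum L, K ≤ 𝔯.asIdeal → 𝔯 ∈ Module.support L W →
      𝔯.asIdeal = maximalIdeal L) :
    Module.supportDim L (W ⧸ K • (⊤ : Submodule L W)) ≤ 0 := by
  have hsub : ∀ 𝔯 ∈ Module.support L (W ⧸ K • (⊤ : Submodule L W)), 𝔯 = closedPoint L := by
    intro 𝔯 h𝔯
    rw [Module.support_quotient] at h𝔯
    apply PrimeSpectrum.ext
    exact hZ 𝔯 ((PrimeSpectrum.mem_zeroLocus _ _).1 h𝔯.2) h𝔯.1
  unfold Module.supportDim
  haveI : Subsingleton (Module.support L (W ⧸ K • (⊤ : Submodule L W))) :=
    ⟨fun a b => Subtype.ext ((hsub a.1 a.2).trans (hsub b.1 b.2).symm)⟩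
  exact Order.krullDim_nonpos_of_subsingleton

set_option maxHeartbeats 3200000 in
/-- **openness at a point closed in its fibre.** -/
theorem RM_cp_closed (n : ℕ)
    (hflat : Module.Flat A (LocalizedModule Q.primeCompl N))
    (hclosed : ∀ Q' : Ideal B, Q'.IsPrime → Q ≤ Q' →
      Q'.comap (algebraMap A B) = Q.comap (algebraMap A B) → Q' = Q)
    (hnt : Nontrivial (LocalizedModule Q.primeCompl N ⧸
        (Ideal.map (algebraMap A (Localization.AtPrime Q)) (Q.comap (algebraMap A B))) •
          (⊤ : Submodule (Localization.AtPrime Q) (LocalizedModule Q.primeCompl N))))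
    (hcp : CPq n (Localization.AtPrime Q) (LocalizedModule Q.primeCompl N)
      (Ideal.map (algebraMap A (Localization.AtPrime Q)) (Q.comap (algebraMap A B)))) :
    ∃ c : B, c ∉ Q ∧ ∀ (Q' : Ideal B) [Q'.IsPrime], c ∉ Q' →
      Module.Flat A (LocalizedModule Q'.primeCompl N) ∧
      CPq n (Localization.AtPrime Q') (LocalizedModule Q'.primeCompl N)
        (Ideal.map (algebraMap A (Localization.AtPrime Q')) (Q'.comap (algebraMap A B))) := by
  haveI : Module.Finite B N := inferInstance
  haveI := hflat
  obtain ⟨g, h, hgQ, hhQ, hhlen, hreg, hdim⟩ := exists_fibre_seq_cp A B N Q n hnt hcp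
  have hgs : ∀ i, g.get i ∈ Q := fun i => hgQ _ (List.get_mem _ _)
  have hhs : ∀ i, h.get i ∈ Q := fun i => hhQ _ (List.get_mem _ _)
  have h0 := flat_mvPolynomial_of_regular_fibre (A := A) Q g.get
    (LocalizedModule.mkLinearMap Q.primeCompl N) hgs hreg
  -- nontriviality and the annihilator
  have hIQ : Module.annihilator B N ≤ Q := by
    have hnt' : Nontrivial (LocalizedModule Q.primeCompl N) := by
      by_contra hne
      rw [not_nontrivial_iff_subsingleton] at hne
      haveI := hne
      exact not_subsingleton (LocalizedModule Q.primeCompl N ⧸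
        (Ideal.map (algebraMap A (Localization.AtPrime Q)) (Q.comap (algebraMap A B))) •
          (⊤ : Submodule (Localization.AtPrime Q) (LocalizedModule Q.primeCompl N)))
        inferInstance
    have : (⟨Q, inferInstance⟩ : PrimeSpectrum B) ∈ Module.support B N :=
      Module.mem_support_iff.2 hnt'
    exact Module.annihilator_le_of_mem_support this
  -- the first polynomial ring
  letI aA₂ := mvPolyAlgebra A g.get
  haveI tA₂ := mvPolyAlgebra_isScalarTower A g.get
  haveI fpA₂ := mvPolyAlgebra_finitePresentation A g.get
  letI mRN := mvPolyModule A g.get N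
  haveI tA₂N : IsScalarTower (MvPolynomial (Fin g.length) A) B N :=
    IsScalarTower.of_algebraMap_smul fun r n => rfl
  have heq : ∀ T : Submonoid B, mvPolyModule A g.get (LocalizedModule T N) =
      (inferInstance : Module (MvPolynomial (Fin g.length) A) (LocalizedModule T N)) := by
    intro T
    refine Module.ext' _ _ fun r w => ?_
    exact algebraMap_smul B r w
  rw [heq] at h0
  obtain ⟨c₁, hc₁, hfl⟩ := exists_flatOnD (A := MvPolynomial (Fin g.length) A) (S := B) (N := N)
    Q h0
  -- the second polynomial ring
  letI aA₃ := mvPolyAlgebra (MvPolynomial (Fin g.length) A) h.get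
  haveI tA₃ := mvPolyAlgebra_isScalarTower (MvPolynomial (Fin g.length) A) h.get
  haveI fpA₃ := mvPolyAlgebra_finitePresentation (MvPolynomial (Fin g.length) A) h.get
  letI mR₃N := mvPolyModule (MvPolynomial (Fin g.length) A) h.get N
  haveI tA₃N : IsScalarTower (MvPolynomial (Fin h.length) (MvPolynomial (Fin g.length) A)) B N :=
    IsScalarTower.of_algebraMap_smul fun r n => rfl
  haveI tAA₃B : IsScalarTower A (MvPolynomial (Fin h.length) (MvPolynomial (Fin g.length) A))
      B := by
    refine IsScalarTower.of_algebraMap_eq fun a => ?_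
    rw [IsScalarTower.algebraMap_apply A (MvPolynomial (Fin g.length) A)
      (MvPolynomial (Fin h.length) (MvPolynomial (Fin g.length) A)),
      ← IsScalarTower.algebraMap_apply (MvPolynomial (Fin g.length) A)
        (MvPolynomial (Fin h.length) (MvPolynomial (Fin g.length) A)) B,
      ← IsScalarTower.algebraMap_apply A (MvPolynomial (Fin g.length) A) B]
  -- basic facts about the polynomial algebra structures
  have hXg : ∀ i, algebraMap (MvPolynomial (Fin g.length) A) B (MvPolynomial.X i) = g.get i :=
    fun i => by
      change MvPolynomial.aeval g.get (MvPolynomial.X i) = _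
      rw [MvPolynomial.aeval_X]
  have hXh : ∀ i, algebraMap (MvPolynomial (Fin h.length) (MvPolynomial (Fin g.length) A)) B
      (MvPolynomial.X i) = h.get i :=
    fun i => by
      change MvPolynomial.aeval h.get (MvPolynomial.X i) = _
      rw [MvPolynomial.aeval_X]
  have hcomapA : ∀ q' : Ideal B, q'.comap (algebraMap A B) =
      (q'.comap (algebraMap (MvPolynomial (Fin h.length) (MvPolynomial (Fin g.length) A)) B)).comap
        (algebraMap A (MvPolynomial (Fin h.length) (MvPolynomial (Fin g.length) A))) := by
    intro q'
    rw [Ideal.comap_comap, ← IsScalarTower.algebraMap_eq]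
  -- incomparability
  obtain ⟨c₂, hc₂, hinc⟩ := exists_away_incomparable
    (A := MvPolynomial (Fin h.length) (MvPolynomial (Fin g.length) A))
    (Module.annihilator B N) Q hIQ
    (fun q' hq' hle heq' => hclosed q' hq' hle (by rw [hcomapA, heq', ← hcomapA]))
    (by
      intro q' hq' hI hle heq'
      haveI := hq'
      have hdisj : Disjoint (Q.primeCompl : Set B) (q' : Set B) := by
        rw [Set.disjoint_left]
        intro x hx hx'
        exact hx (hle hx')
      have h𝔯 : (q'.map (algebraMap B (Localization.AtPrime Q))).IsPrime :=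
        IsLocalization.isPrime_of_isPrime_disjoint Q.primeCompl _ _ hq' hdisj
      have hsupp := map_mem_support N Q q' hle hI h𝔯
      -- elements of `A₃` mapping into `Q` map into `q'`
      have hkey : ∀ x : MvPolynomial (Fin h.length) (MvPolynomial (Fin g.length) A),
          algebraMap _ B x ∈ Q → algebraMap _ B x ∈ q' := by
        intro x hx
        have h2 : x ∈ Q.comap
            (algebraMap (MvPolynomial (Fin h.length) (MvPolynomial (Fin g.length) A)) B) := hx
        rw [← heq'] at h2
        exact h2
      have hmax := hdim ⟨_, h𝔯⟩ ?_ ?_ ?_ hsupp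
      · have h1 := IsLocalization.comap_map_of_isPrime_disjoint Q.primeCompl
          (Localization.AtPrime Q) hq' hdisj
        change Ideal.map (algebraMap B (Localization.AtPrime Q)) q' = _ at hmax
        rw [hmax, Localization.AtPrime.comap_maximalIdeal] at h1
        exact h1.symm
      · change Ideal.map (algebraMap A (Localization.AtPrime Q)) _ ≤
          Ideal.map (algebraMap B (Localization.AtPrime Q)) q'
        rw [IsScalarTower.algebraMap_eq A B (Localization.AtPrime Q), ← Ideal.map_map]
        refine Ideal.map_mono ?_
        rw [Ideal.map_le_iff_le_comap]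
        intro a ha
        rw [Ideal.mem_comap, IsScalarTower.algebraMap_apply A
          (MvPolynomial (Fin h.length) (MvPolynomial (Fin g.length) A)) B]
        apply hkey
        rw [← IsScalarTower.algebraMap_apply]
        exact ha
      · intro b hb
        obtain ⟨i, rfl⟩ := List.mem_iff_get.1 hb
        change algebraMap B (Localization.AtPrime Q) (g.get i) ∈
          Ideal.map (algebraMap B (Localization.AtPrime Q)) q'
        refine Ideal.mem_map_of_mem _ ?_
        rw [← hXg i, IsScalarTower.algebraMap_apply (MvPolynomial (Fin g.length) A)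
          (MvPolynomial (Fin h.length) (MvPolynomial (Fin g.length) A)) B]
        apply hkey
        rw [← IsScalarTower.algebraMap_apply, hXg]
        exact hgs i
      · intro b hb
        obtain ⟨i, rfl⟩ := List.mem_iff_get.1 hb
        change algebraMap B (Localization.AtPrime Q) (h.get i) ∈
          Ideal.map (algebraMap B (Localization.AtPrime Q)) q'
        refine Ideal.mem_map_of_mem _ ?_
        rw [← hXh i]
        apply hkey
        rw [hXh]
        exact hhs i)
  refine ⟨c₁ * c₂, fun h => (Ideal.IsPrime.mem_or_mem inferInstance h).elim hc₁ hc₂, ?_⟩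
  intro Q' _ hcQ'
  have hc₁' : c₁ ∉ Q' := fun h => hcQ' (Ideal.mul_mem_right _ _ h)
  have hc₂' : c₂ ∉ Q' := fun h => hcQ' (Ideal.mul_mem_left _ _ h)
  have hflA₂ : Module.Flat (MvPolynomial (Fin g.length) A) (LocalizedModule Q'.primeCompl N) :=
    hfl Q' hc₁'
  haveI tAA₂W : IsScalarTower A (MvPolynomial (Fin g.length) A)
      (LocalizedModule Q'.primeCompl N) := by
    refine IsScalarTower.of_algebraMap_smul fun a w => ?_
    rw [← algebraMap_smul B (algebraMap A (MvPolynomial (Fin g.length) A) a) w,
      ← IsScalarTower.algebraMap_apply, algebraMap_smul]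
  have hflA : Module.Flat A (LocalizedModule Q'.primeCompl N) := by
    haveI := hflA₂
    exact Module.Flat.trans A (MvPolynomial (Fin g.length) A) _
  refine ⟨hflA, ?_⟩
  -- dimension zero over `A₃`
  have hdim3 : Module.supportDim (Localization.AtPrime Q')
      (LocalizedModule Q'.primeCompl N ⧸
        (Ideal.map (algebraMap (MvPolynomial (Fin h.length) (MvPolynomial (Fin g.length) A))
          (Localization.AtPrime Q'))
        (Q'.comap (algebraMap (MvPolynomial (Fin h.length) (MvPolynomial (Fin g.length) A)) B))) •
        (⊤ : Submodule (Localization.AtPrime Q') (LocalizedModule Q'.primeCompl N))) ≤ 0 := by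
    refine supportDim_le_zero_of_support_subset _ ?_
    intro 𝔯 hK h𝔯
    have hann := annihilator_le_comap_of_mem_support B N Q' 𝔯 h𝔯
    have hle : 𝔯.asIdeal.comap (algebraMap B (Localization.AtPrime Q')) ≤ Q' := by
      have h5 := Ideal.comap_mono (f := algebraMap B (Localization.AtPrime Q'))
        (IsLocalRing.le_maximalIdeal 𝔯.2.ne_top)
      exact h5.trans (Localization.AtPrime.comap_maximalIdeal (I := Q')).le
    have hcontr : (𝔯.asIdeal.comap (algebraMap B (Localization.AtPrime Q'))).comap
        (algebraMap (MvPolynomial (Fin h.length) (MvPolynomial (Fin g.length) A)) B) =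
        Q'.comap (algebraMap (MvPolynomial (Fin h.length) (MvPolynomial (Fin g.length) A)) B) := by
      refine le_antisymm (Ideal.comap_mono hle) ?_
      intro F hF
      rw [Ideal.mem_comap, Ideal.mem_comap, ← IsScalarTower.algebraMap_apply]
      exact hK (Ideal.mem_map_of_mem _ hF)
    have h3 := hinc _ Q' (Ideal.IsPrime.comap _) inferInstance hann hle hc₂' hcontr
    have h4 := IsLocalization.map_comap Q'.primeCompl (Localization.AtPrime Q') 𝔯.asIdeal
    change Ideal.map (algebraMap B (Localization.AtPrime Q'))
      (Ideal.comap (algebraMap B (Localization.AtPrime Q')) 𝔯.asIdeal) = _ at h4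
    rw [h3, Localization.AtPrime.map_eq_maximalIdeal] at h4
    exact h4.symm
  -- the dimension over `A₂`
  have hdim2 := dim_descend (MvPolynomial (Fin g.length) A)
    (MvPolynomial (Fin h.length) (MvPolynomial (Fin g.length) A)) B N Q'
  have hpoly := ringKrullDim_fibLocRing_mvPolynomial_le (MvPolynomial (Fin g.length) A) h.length
    (Q'.comap (algebraMap (MvPolynomial (Fin h.length) (MvPolynomial (Fin g.length) A)) B))
  have hcp2 : CPq n (Localization.AtPrime Q') (LocalizedModule Q'.primeCompl N)
      (Ideal.map (algebraMap (MvPolynomial (Fin g.length) A) (Localization.AtPrime Q'))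
        (Q'.comap (algebraMap (MvPolynomial (Fin g.length) A) B))) := by
    unfold CPq CP
    refine hdim2.trans ?_
    have h6 : ringKrullDim (EGA4.FibLocRing (MvPolynomial (Fin g.length) A)
        (MvPolynomial (Fin h.length) (MvPolynomial (Fin g.length) A))
        (Q'.comap (algebraMap (MvPolynomial (Fin h.length) (MvPolynomial (Fin g.length) A)) B))) +
        Module.supportDim (Localization.AtPrime Q')
      (LocalizedModule Q'.primeCompl N ⧸
        (Ideal.map (algebraMap (MvPolynomial (Fin h.length) (MvPolynomial (Fin g.length) A))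
          (Localization.AtPrime Q'))
        (Q'.comap (algebraMap (MvPolynomial (Fin h.length) (MvPolynomial (Fin g.length) A)) B))) •
        (⊤ : Submodule (Localization.AtPrime Q') (LocalizedModule Q'.primeCompl N))) ≤
        ((h.length : ℕ∞) : WithBot ℕ∞) + 0 := add_le_add hpoly hdim3
    refine h6.trans ?_
    rw [add_zero]
    have h7 : ((h.length : ℕ∞) : WithBot ℕ∞) ≤ (n : WithBot ℕ∞) := by exact_mod_cast hhlen
    refine h7.trans ?_
    exact le_add_of_nonneg_left (by
      rw [← WithBot.coe_zero]
      exact WithBot.coe_le_coe.2 zero_le)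
  exact cpq_descend A (MvPolynomial (Fin g.length) A) B N Q' n
    (isRegularLocalRing_fibLocRing_mvPolynomial A g.length _) hflA₂ hcp2

end Closed

section General

variable (A B : Type u) [CommRing A] [CommRing B] [Algebra A B] [Algebra.FinitePresentation A B]
  (N : Type u) [AddCommGroup N] [Module B N] [Module.FinitePresentation B N] [Module A N]
  [IsScalarTower A B N] (Q : Ideal B) [Q.IsPrime]

set_option maxHeartbeats 1600000 in
/-- **openness of the locus where the fibrewise codepth of a flat finitely presented module is at
most `n`, at a point.** -/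
theorem RM_cp (n : ℕ)
    (hflat : Module.Flat A (LocalizedModule Q.primeCompl N))
    (hcp : CPq n (Localization.AtPrime Q) (LocalizedModule Q.primeCompl N)
      (Ideal.map (algebraMap A (Localization.AtPrime Q)) (Q.comap (algebraMap A B)))) :
    ∃ c : B, c ∉ Q ∧ ∀ (Q' : Ideal B) [Q'.IsPrime], c ∉ Q' →
      Module.Flat A (LocalizedModule Q'.primeCompl N) ∧
      CPq n (Localization.AtPrime Q') (LocalizedModule Q'.primeCompl N)
        (Ideal.map (algebraMap A (Localization.AtPrime Q')) (Q'.comap (algebraMap A B))) := by
  haveI : Module.Finite B N := inferInstance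
  by_cases hz : Subsingleton (LocalizedModule Q.primeCompl N ⧸
      (Ideal.map (algebraMap A (Localization.AtPrime Q)) (Q.comap (algebraMap A B))) •
        (⊤ : Submodule (Localization.AtPrime Q) (LocalizedModule Q.primeCompl N)))
  · -- the zero case
    have h0 : Subsingleton (LocalizedModule Q.primeCompl N) := by
      rw [Submodule.Quotient.subsingleton_iff] at hz
      have h1 := Submodule.eq_bot_of_le_smul_of_le_jacobson_bot
        (Ideal.map (algebraMap A (Localization.AtPrime Q)) (Q.comap (algebraMap A B)))
        (⊤ : Submodule (Localization.AtPrime Q) (LocalizedModule Q.primeCompl N))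
        Module.Finite.fg_top hz.ge
        (by
          rw [IsLocalRing.jacobson_eq_maximalIdeal ⊥ bot_ne_top]
          exact map_comap_le_maximalIdeal A B Q)
      exact (Submodule.subsingleton_iff (Localization.AtPrime Q)).1
        (subsingleton_of_bot_eq_top h1.symm)
    obtain ⟨c, hc, hall⟩ := RM_zero B N Q h0
    refine ⟨c, hc, ?_⟩
    intro Q' _ hcQ'
    haveI := hall Q' hcQ'
    exact ⟨inferInstance, cp_of_subsingleton n _ _⟩
  · rw [not_subsingleton_iff_nontrivial] at hz
    obtain ⟨e, hs, h1, h2⟩ := exists_algIndep_lift A B Q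
    letI aA₁ := mvPolyAlgebra A hs
    haveI tA₁ := mvPolyAlgebra_isScalarTower A hs
    haveI fpA₁ := mvPolyAlgebra_finitePresentation A hs
    letI mRN := mvPolyModule A hs N
    haveI tA₁N : IsScalarTower (MvPolynomial (Fin e) A) B N :=
      IsScalarTower.of_algebraMap_smul fun r n => rfl
    have hC : ∀ a : A, algebraMap (MvPolynomial (Fin e) A) B (MvPolynomial.C a) =
        algebraMap A B a := fun a => by
      change MvPolynomial.aeval hs (MvPolynomial.C a) = _
      rw [MvPolynomial.aeval_C]
    have hP : Q.comap (algebraMap (MvPolynomial (Fin e) A) B) =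
        (Q.comap (algebraMap A B)).map (algebraMap A (MvPolynomial (Fin e) A)) := by
      refine le_antisymm (fun F hF => h1 F hF) ?_
      rw [Ideal.map_le_iff_le_comap]
      intro a ha
      rw [Ideal.mem_comap, Ideal.mem_comap, MvPolynomial.algebraMap_eq, hC]
      exact ha
    have hflatA₁ : Module.Flat (MvPolynomial (Fin e) A) (LocalizedModule Q.primeCompl N) :=
      flat_of_comap_eq_map A (MvPolynomial (Fin e) A) B N Q hP hflat
    have hK : Ideal.map (algebraMap (MvPolynomial (Fin e) A) (Localization.AtPrime Q))
        (Q.comap (algebraMap (MvPolynomial (Fin e) A) B)) =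
        Ideal.map (algebraMap A (Localization.AtPrime Q)) (Q.comap (algebraMap A B)) := by
      rw [hP, Ideal.map_map, ← IsScalarTower.algebraMap_eq]
    have hnt₁ : Nontrivial (LocalizedModule Q.primeCompl N ⧸
          (Ideal.map (algebraMap (MvPolynomial (Fin e) A) (Localization.AtPrime Q))
            (Q.comap (algebraMap (MvPolynomial (Fin e) A) B))) •
          (⊤ : Submodule (Localization.AtPrime Q) (LocalizedModule Q.primeCompl N))) := by
      rw [hK]
      exact hz
    have hcp₁ : CPq n (Localization.AtPrime Q) (LocalizedModule Q.primeCompl N)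
          (Ideal.map (algebraMap (MvPolynomial (Fin e) A) (Localization.AtPrime Q))
            (Q.comap (algebraMap (MvPolynomial (Fin e) A) B))) := by
      rw [hK]
      exact hcp
    obtain ⟨c, hc, hall⟩ := RM_cp_closed (MvPolynomial (Fin e) A) B N Q n hflatA₁
      (fun Q' hQ' hle heq' => h2 Q' hQ' hle (fun F hF => by
        have : F ∈ Q'.comap (algebraMap (MvPolynomial (Fin e) A) B) := hF
        rw [heq'] at this
        exact this)) hnt₁ hcp₁
    refine ⟨c, hc, ?_⟩
    intro Q' _ hcQ'
    obtain ⟨hfl', hcp'⟩ := hall Q' hcQ'
    haveI tAA₁W : IsScalarTower A (MvPolynomial (Fin e) A)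
        (LocalizedModule Q'.primeCompl N) := by
      refine IsScalarTower.of_algebraMap_smul fun a w => ?_
      rw [← algebraMap_smul B (algebraMap A (MvPolynomial (Fin e) A) a) w,
        ← IsScalarTower.algebraMap_apply, algebraMap_smul]
    have hflA : Module.Flat A (LocalizedModule Q'.primeCompl N) := by
      haveI := hfl'
      exact Module.Flat.trans A (MvPolynomial (Fin e) A) _
    exact ⟨hflA, cpq_descend A (MvPolynomial (Fin e) A) B N Q' n
      (isRegularLocalRing_fibLocRing_mvPolynomial A e _) hfl' hcp'⟩

end General

end Groth.Agent.Lib.Helper14.CMMod
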