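import Mathlib
import Groth.Agent.Lib.Helper14.CMMod.Main
import Groth.Agent.Lib.Helper14.FlatOpen.ModStalk
import Groth.Agent.Lib.Helper17.PbStalk
import Groth.Agent.Lib.Helper17.FibreStalkMap

/-!
# Openness of the fibrewise Cohen–Macaulay locus of a module: schemes (helper14)
-/

set_option autoImplicit false
set_option linter.style.haveILetI false
set_option linter.unusedSectionVars false
universe u

open IsLocalRing TensorProduct CategoryTheory AlgebraicGeometry

namespace Groth.Agent.Lib.Helper14.CMMod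

section Abstract

/-- transfer of `CMq` along a semilinear isomorphism over a ring isomorphism. -/
theorem cmq_iff_of_equiv {L L' : Type u} [CommRing L] [CommRing L'] [IsLocalRing L]
    [IsLocalRing L'] (θ : L ≃+* L') {W W' : Type u} [AddCommGroup W] [Module L W]
    [AddCommGroup W'] [Module L' W'] (g : W ≃+ W') (hg : ∀ l w, g (l • w) = θ l • g w)
    (K : Ideal L) (K' : Ideal L') (hK : K.map (θ : L →+* L') = K') :
    CMq L W K ↔ CMq L' W' K' := by
  letI aLL' : Algebra L L' := (θ : L →+* L').toAlgebra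
  letI mLW' : Module L W' := Module.compHom W' (θ : L →+* L')
  haveI tLL'W' : IsScalarTower L L' W' := IsScalarTower.of_algebraMap_smul fun r m => rfl
  let ĝ : W ≃ₗ[L] W' := { g with map_smul' := fun l w => hg l w }
  have h1 : (K • (⊤ : Submodule L W)).map ĝ.toLinearMap =
      (K' • (⊤ : Submodule L' W')).restrictScalars L := by
    rw [Submodule.map_smul'', Submodule.map_top, LinearMap.range_eq_top.2 ĝ.surjective]
    have h2 := Ideal.smul_restrictScalars (S := L') K (⊤ : Submodule L' W')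
    rw [Submodule.restrictScalars_top] at h2
    rw [← h2]
    congr 2
  let e : (W ⧸ K • (⊤ : Submodule L W)) ≃ₗ[L] (W' ⧸ K' • (⊤ : Submodule L' W')) :=
    (Submodule.Quotient.equiv _ _ ĝ h1).trans
      (Submodule.Quotient.restrictScalarsEquiv L (K' • (⊤ : Submodule L' W')))
  have hsemi : ∀ (l : L) (m : W ⧸ K • (⊤ : Submodule L W)),
      e.toAddEquiv (l • m) = (θ : L →+* L') l • e.toAddEquiv m := fun l m => by
    change e (l • m) = _
    rw [e.map_smul]
    exact (algebraMap_smul L' l (e m)).symm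
  unfold CMq
  rw [cm_iff_of_semilinear (θ : L →+* L') θ.surjective e.toAddEquiv hsemi]
  exact or_congr e.toEquiv.subsingleton_congr Iff.rfl

/-- the fibre condition in terms of a base change along a surjection. -/
theorem cmq_iff_of_isBaseChange {R R₀ : Type u} [CommRing R] [CommRing R₀] [IsLocalRing R]
    [IsLocalRing R₀] [Algebra R R₀] (hφ : Function.Surjective (algebraMap R R₀))
    {M M₁ : Type u} [AddCommGroup M] [Module R M] [AddCommGroup M₁] [Module R₀ M₁]
    [Module R M₁] [IsScalarTower R R₀ M₁] (γ : M →ₗ[R] M₁) (hγ : IsBaseChange R₀ γ)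
    (K : Ideal R) (hK : RingHom.ker (algebraMap R R₀) = K) :
    (Subsingleton M₁ ∨ LocCoh.IsCohenMacaulayModule R₀ M₁) ↔ CMq R M K := by
  have hK' : RingHom.ker (Algebra.ofId R R₀) = K := by
    rw [← hK]
    rfl
  subst hK'
  let e₁ : (M ⧸ (RingHom.ker (Algebra.ofId R R₀)) • (⊤ : Submodule R M)) ≃ₗ[R]
      (R ⧸ RingHom.ker (Algebra.ofId R R₀)) ⊗[R] M :=
    (TensorProduct.quotTensorEquivQuotSMul M _).symm
  let a : (R ⧸ RingHom.ker (Algebra.ofId R R₀)) ≃ₗ[R] R₀ :=
    (Ideal.quotientKerAlgEquivOfSurjective (f := Algebra.ofId R R₀) hφ).toLinearEquiv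
  let e₂ : (R ⧸ RingHom.ker (Algebra.ofId R R₀)) ⊗[R] M ≃ₗ[R] R₀ ⊗[R] M :=
    TensorProduct.congr a (LinearEquiv.refl R M)
  let e₃ : R₀ ⊗[R] M ≃ₗ[R] M₁ := hγ.equiv.restrictScalars R
  let e := e₁ ≪≫ₗ e₂ ≪≫ₗ e₃
  have hsemi : ∀ (r : R) (m : M ⧸ (RingHom.ker (Algebra.ofId R R₀)) • (⊤ : Submodule R M)),
      e.toAddEquiv (r • m) = (algebraMap R R₀) r • e.toAddEquiv m := fun r m => by
    change e (r • m) = _
    rw [e.map_smul]
    exact (algebraMap_smul R₀ r (e m)).symm
  unfold CMq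
  rw [cm_iff_of_semilinear (algebraMap R R₀) hφ e.toAddEquiv hsemi]
  exact or_congr e.toEquiv.subsingleton_congr.symm Iff.rfl

end Abstract

section Sch

open Groth.Agent.Lib.Helper3 Groth.Agent.Lib.Helper1.FlatAffine Groth.Agent.Lib.Helper17
  Groth.Agent.Lib.Helper14.FlatOpen

variable {X Y : Scheme.{u}} (f : X ⟶ Y) (F : X.Modules)

/-- the intrinsic fibrewise Cohen–Macaulay condition at `x`: `F_x / 𝔪_{f x} F_x` is zero or
Cohen–Macaulay over `O_{X,x}`. -/
def QX (x : X) : Prop :=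
  CMq (X.presheaf.stalk x) (F.presheaf.stalk x)
    (Ideal.map (f.stalkMap x).hom (IsLocalRing.maximalIdeal (Y.presheaf.stalk (f.base x))))

/-- the condition on the fibre is the intrinsic condition. -/
theorem fibre_iff [F.IsQuasicoherent] (s : Y) (z : f.fiber s) :
    (Subsingleton (((Scheme.Modules.pullback (f.fiberι s)).obj F).presheaf.stalk z) ∨
      LocCoh.IsCohenMacaulayModule ((f.fiber s).presheaf.stalk z)
        (((Scheme.Modules.pullback (f.fiberι s)).obj F).presheaf.stalk z)) ↔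
      QX f F ((f.fiberι s).base z) := by
  letI := ((f.fiberι s).stalkMap z).hom.toAlgebra
  letI : Module (X.presheaf.stalk ((f.fiberι s) z))
      (((Scheme.Modules.pullback (f.fiberι s)).obj F).presheaf.stalk z) :=
    Module.compHom _ ((f.fiberι s).stalkMap z).hom
  obtain ⟨hst, γ, hγ⟩ := PbStalk.exists_isBaseChange_stalk (f.fiberι s) F z
  obtain ⟨hsurj, hker⟩ := FibreStalkMap.stalkMap_fiberι f s z
  exact cmq_iff_of_isBaseChange hsurj γ hγ _ hker

variable {U : X.Opens} {V : Y.Opens} (hU : IsAffineOpen U) (hV : IsAffineOpen V)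
  (hUV : U ≤ f ⁻¹ᵁ V)

include hU hV in
set_option maxHeartbeats 1600000 in
/-- the intrinsic condition on an affine chart. -/
theorem qx_iff_chart [F.IsQuasicoherent] (x : X) (hx : x ∈ U) :
    letI a0 : Algebra Γ(Y, V) Γ(X, U) := (f.appLE V U hUV).hom.toAlgebra
    QX f F x ↔
      CMq (Localization.AtPrime (hU.primeIdealOf ⟨x, hx⟩).asIdeal)
        (LocalizedModule (hU.primeIdealOf ⟨x, hx⟩).asIdeal.primeCompl Γ(F, U))
        (Ideal.map (algebraMap Γ(Y, V) (Localization.AtPrime (hU.primeIdealOf ⟨x, hx⟩).asIdeal))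
          ((hU.primeIdealOf ⟨x, hx⟩).asIdeal.comap (algebraMap Γ(Y, V) Γ(X, U)))) := by
  letI a0 : Algebra Γ(Y, V) Γ(X, U) := (f.appLE V U hUV).hom.toAlgebra
  obtain ⟨i1, i2, i3, i4, gF, hg1, hg2, hg3⟩ := QS.exists_isLocalizedModule hU F x hx
  have hyV : f x ∈ V := hUV hx
  -- the ring isomorphism
  let θ : X.presheaf.stalk x ≃ₐ[Γ(X, U)] Localization.AtPrime (hU.primeIdealOf ⟨x, hx⟩).asIdeal :=
    IsLocalization.algEquiv (hU.primeIdealOf ⟨x, hx⟩).asIdeal.primeCompl _ _
  letI mLW : Module (X.presheaf.stalk x)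
      (LocalizedModule (hU.primeIdealOf ⟨x, hx⟩).asIdeal.primeCompl Γ(F, U)) :=
    Module.compHom _ (θ : X.presheaf.stalk x →+*
      Localization.AtPrime (hU.primeIdealOf ⟨x, hx⟩).asIdeal)
  haveI tBLW : IsScalarTower Γ(X, U) (X.presheaf.stalk x)
      (LocalizedModule (hU.primeIdealOf ⟨x, hx⟩).asIdeal.primeCompl Γ(F, U)) := by
    refine IsScalarTower.of_algebraMap_smul fun b w => ?_
    change θ (algebraMap _ _ b) • w = b • w
    rw [θ.commutes, algebraMap_smul]
  let g₀ : F.presheaf.stalk x ≃ₗ[Γ(X, U)]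
      LocalizedModule (hU.primeIdealOf ⟨x, hx⟩).asIdeal.primeCompl Γ(F, U) :=
    IsLocalizedModule.linearEquiv (hU.primeIdealOf ⟨x, hx⟩).asIdeal.primeCompl gF
      (LocalizedModule.mkLinearMap (hU.primeIdealOf ⟨x, hx⟩).asIdeal.primeCompl Γ(F, U))
  let g₁ : F.presheaf.stalk x ≃ₗ[X.presheaf.stalk x]
      LocalizedModule (hU.primeIdealOf ⟨x, hx⟩).asIdeal.primeCompl Γ(F, U) :=
    LinearEquiv.extendScalarsOfIsLocalization (hU.primeIdealOf ⟨x, hx⟩).asIdeal.primeCompl
      (X.presheaf.stalk x) g₀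
  refine cmq_iff_of_equiv θ.toRingEquiv g₁.toAddEquiv (fun l w => g₁.map_smul l w) _ _ ?_
  -- the ideals
  letI aBB' : Algebra Γ(Y, V) (Y.presheaf.stalk (f x)) :=
    TopCat.Presheaf.algebra_section_stalk Y.presheaf (U := V) ⟨f x, hyV⟩
  haveI locB' : IsLocalization.AtPrime (Y.presheaf.stalk (f x))
      (hV.primeIdealOf ⟨f x, hyV⟩).asIdeal := hV.isLocalization_stalk ⟨f x, hyV⟩
  have hq : (hU.primeIdealOf ⟨x, hx⟩).asIdeal.comap (algebraMap Γ(Y, V) Γ(X, U)) =
      (hV.primeIdealOf ⟨f x, hyV⟩).asIdeal :=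
    congrArg PrimeSpectrum.asIdeal (IsAffineOpen.comap_primeIdealOf_appLE V hV U hU hUV hx)
  have hmax : IsLocalRing.maximalIdeal (Y.presheaf.stalk (f.base x)) =
      Ideal.map (algebraMap Γ(Y, V) (Y.presheaf.stalk (f x)))
        (hV.primeIdealOf ⟨f x, hyV⟩).asIdeal :=
    (IsLocalization.AtPrime.map_eq_maximalIdeal (hV.primeIdealOf ⟨f x, hyV⟩).asIdeal
      (Y.presheaf.stalk (f x))).symm
  rw [hmax, hq, Ideal.map_map, Ideal.map_map]
  congr 1
  ext a
  simp only [RingHom.comp_apply]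
  have e1 : algebraMap Γ(Y, V) (Y.presheaf.stalk (f x)) a = Y.presheaf.germ V (f x) hyV a := rfl
  rw [e1, ← germ_appLE f hUV x hx a, ← hg1]
  change θ (algebraMap Γ(X, U) (X.presheaf.stalk x) (algebraMap Γ(Y, V) Γ(X, U) a)) = _
  rw [θ.commutes, ← IsScalarTower.algebraMap_apply]

omit hU hV hUV in
/-- **openness of the fibrewise Cohen–Macaulay locus of a flat finitely presented module.** -/
theorem isOpen_QX [LocallyOfFinitePresentation f]
    [SheafOfModules.IsFinitePresentation (R := X.ringCatSheaf) F]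
    (hflat : FlatMod.IsFlatOver f F) : IsOpen {x : X | QX f F x} := by
  refine isOpen_iff_forall_mem_open.mpr fun x hx ↦ ?_
  obtain ⟨_, ⟨V, hV, rfl⟩, hxV, -⟩ :=
    Y.isBasis_affineOpens.exists_subset_of_mem_open (Set.mem_univ (f x)) isOpen_univ
  obtain ⟨_, ⟨U, hU, rfl⟩, hxU, hUV⟩ :=
    X.isBasis_affineOpens.exists_subset_of_mem_open hxV (V.2.preimage f.continuous)
  letI a0 : Algebra Γ(Y, V) Γ(X, U) := (f.appLE V U hUV).hom.toAlgebra
  letI a1 : Module Γ(Y, V) Γ(F, U) := Module.compHom _ (f.appLE V U hUV).hom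
  haveI a2 : IsScalarTower Γ(Y, V) Γ(X, U) Γ(F, U) :=
    IsScalarTower.of_algebraMap_smul fun r n => rfl
  haveI : Algebra.FinitePresentation Γ(Y, V) Γ(X, U) := f.finitePresentation_appLE hV hU hUV
  haveI : Module.FinitePresentation Γ(X, U) Γ(F, U) := QCProps.finitePresentation_sections F hU
  have hfl := (isFlatOverAt_iff_localizedModule f F hU hV hUV x hxU).mp (hflat x)
  have hcm := (qx_iff_chart f F hU hV hUV x hxU).mp hx
  obtain ⟨c, hc, hall⟩ := RM Γ(Y, V) Γ(X, U) Γ(F, U) (hU.primeIdealOf ⟨x, hxU⟩).asIdeal hfl hcm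
  refine ⟨X.basicOpen c, ?_, (X.basicOpen c).2, ?_⟩
  · intro y hy
    have hyU : y ∈ U := X.basicOpen_le c hy
    refine (qx_iff_chart f F hU hV hUV y hyU).mpr ?_
    exact (hall _ ((mem_basicOpen_iff_notMem_primeIdealOf hU y hyU c).mp hy)).2
  · exact (mem_basicOpen_iff_notMem_primeIdealOf hU x hxU c).mpr hc

omit hU hV hUV in
/-- pointwise form on the total space. -/
theorem isOpen_fibre_cm [LocallyOfFinitePresentation f]
    [SheafOfModules.IsFinitePresentation (R := X.ringCatSheaf) F]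
    (hflat : FlatMod.IsFlatOver f F) :
    IsOpen {x : X |
      Subsingleton (((Scheme.Modules.pullback (f.fiberι (f.base x))).obj F).presheaf.stalk
        (f.asFiber x)) ∨
      LocCoh.IsCohenMacaulayModule ((f.fiber (f.base x)).presheaf.stalk (f.asFiber x))
        (((Scheme.Modules.pullback (f.fiberι (f.base x))).obj F).presheaf.stalk
          (f.asFiber x))} := by
  have h := isOpen_QX f F hflat
  convert h using 1
  ext x
  simp only [Set.mem_setOf_eq]
  rw [fibre_iff f F (f.base x) (f.asFiber x)]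
  have := f.fiberι_asFiber x
  rw [this]

omit hU hV hUV in
/-- form on the base, for a closed map. -/
theorem isOpen_fibre_cm_base [LocallyOfFinitePresentation f]
    [SheafOfModules.IsFinitePresentation (R := X.ringCatSheaf) F]
    (hflat : FlatMod.IsFlatOver f F) (hcl : IsClosedMap f.base) :
    IsOpen {y : Y | ∀ x : ↥(f.fiber y),
      Subsingleton (((Scheme.Modules.pullback (f.fiberι y)).obj F).presheaf.stalk x) ∨
      LocCoh.IsCohenMacaulayModule ((f.fiber y).presheaf.stalk x)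
        (((Scheme.Modules.pullback (f.fiberι y)).obj F).presheaf.stalk x)} := by
  have h := isOpen_QX f F hflat
  have h2 : IsClosed (f.base '' {x : X | QX f F x}ᶜ) := hcl _ h.isClosed_compl
  convert h2.isOpen_compl using 1
  ext y
  simp only [Set.mem_setOf_eq, Set.mem_compl_iff, Set.mem_image, not_exists, not_and, not_not]
  constructor
  · intro hall x hx hxy
    subst hxy
    have h3 := hall (f.asFiber x)
    rw [fibre_iff f F (f.base x) (f.asFiber x)] at h3
    have := f.fiberι_asFiber x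
    rw [this] at h3
    exact hx h3
  · intro hall z
    rw [fibre_iff f F y z]
    by_contra hne
    have h3 : (f.fiberι y).base z ∈ f.base ⁻¹' {y} := by
      rw [← f.range_fiberι y]
      exact ⟨z, rfl⟩
    exact hall _ hne h3

end Sch

end Groth.Agent.Lib.Helper14.CMMod
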