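import Mathlib
import Groth.Agent.Lib.Helper14.CMMod.CoprofSch
import Groth.Agent.Lib.Helper14.FlatOpen.Stalk

/-!
# Openness of the locus where a morphism is flat with fibres of bounded codepth (helper14)
-/

set_option autoImplicit false
set_option linter.style.haveILetI false
set_option linter.unusedSectionVars false
universe u

open IsLocalRing TensorProduct CategoryTheory AlgebraicGeometry

namespace Groth.Agent.Lib.Helper14.CMMod

section Abstract

/-- the codepth of a quotient ring, computed over the ring. -/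
theorem cp_self_iff_of_surjective (n : ℕ) {R R₀ : Type u} [CommRing R] [CommRing R₀]
    [IsLocalRing R] [IsLocalRing R₀] (φ : R →+* R₀) (hφ : Function.Surjective φ)
    (K : Ideal R) (hK : RingHom.ker φ = K) :
    CP n R₀ R₀ ↔ CPq n R R K := by
  subst hK
  have h1 : (RingHom.ker φ) • (⊤ : Submodule R R) = RingHom.ker φ := by
    rw [smul_eq_mul, Ideal.mul_top]
  let e₁ : (R ⧸ (RingHom.ker φ) • (⊤ : Submodule R R)) ≃ₗ[R] (R ⧸ RingHom.ker φ) :=
    Submodule.quotEquivOfEq _ _ h1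
  let e₂ : (R ⧸ RingHom.ker φ) ≃+* R₀ := RingHom.quotientKerEquivOfSurjective hφ
  let g : (R ⧸ (RingHom.ker φ) • (⊤ : Submodule R R)) ≃+ R₀ :=
    e₁.toAddEquiv.trans e₂.toAddEquiv
  have hg : ∀ (r : R) (m : R ⧸ (RingHom.ker φ) • (⊤ : Submodule R R)),
      g (r • m) = φ r • g m := by
    intro r m
    induction m using Submodule.Quotient.induction_on with
    | H a =>
      change e₂ (e₁ (r • Submodule.Quotient.mk a)) = φ r • e₂ (e₁ (Submodule.Quotient.mk a))
      rw [← Submodule.Quotient.mk_smul]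
      change e₂ (Ideal.Quotient.mk _ (r • a)) = φ r • e₂ (Ideal.Quotient.mk _ a)
      rw [RingHom.quotientKerEquivOfSurjective_apply_mk,
        RingHom.quotientKerEquivOfSurjective_apply_mk, smul_eq_mul, map_mul, smul_eq_mul]
  unfold CPq
  exact (cp_iff_of_semilinear n φ hφ g hg).symm

end Abstract

section Sch

open Groth.Agent.Lib.Helper3 Groth.Agent.Lib.Helper1.FlatAffine Groth.Agent.Lib.Helper17
  Groth.Agent.Lib.Helper14.FlatOpen

variable {X Y : Scheme.{u}} (f : X ⟶ Y)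

/-- the intrinsic condition at `x`: `O_{X,x} / 𝔪_{f x} O_{X,x}` has codepth at most `n`. -/
def QXcpRing (n : ℕ) (x : X) : Prop :=
  CPq n (X.presheaf.stalk x) (X.presheaf.stalk x)
    (Ideal.map (f.stalkMap x).hom (IsLocalRing.maximalIdeal (Y.presheaf.stalk (f.base x))))

/-- the condition on the fibre is the intrinsic condition. -/
theorem fibre_iff_cp_ring (n : ℕ) (s : Y) (z : f.fiber s) :
    CP n ((f.fiber s).presheaf.stalk z) ((f.fiber s).presheaf.stalk z) ↔
      QXcpRing f n ((f.fiberι s).base z) := by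
  obtain ⟨hsurj, hker⟩ := FibreStalkMap.stalkMap_fiberι f s z
  exact cp_self_iff_of_surjective n _ hsurj _ hker

variable {U : X.Opens} {V : Y.Opens} (hU : IsAffineOpen U) (hV : IsAffineOpen V)
  (hUV : U ≤ f ⁻¹ᵁ V)

include hU hV in
set_option maxHeartbeats 1600000 in
/-- the intrinsic condition on an affine chart. -/
theorem qxcpring_iff_chart (n : ℕ) (x : X) (hx : x ∈ U) :
    letI a0 : Algebra Γ(Y, V) Γ(X, U) := (f.appLE V U hUV).hom.toAlgebra
    QXcpRing f n x ↔
      CPq n (Localization.AtPrime (hU.primeIdealOf ⟨x, hx⟩).asIdeal)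
        (LocalizedModule (hU.primeIdealOf ⟨x, hx⟩).asIdeal.primeCompl Γ(X, U))
        (Ideal.map (algebraMap Γ(Y, V) (Localization.AtPrime (hU.primeIdealOf ⟨x, hx⟩).asIdeal))
          ((hU.primeIdealOf ⟨x, hx⟩).asIdeal.comap (algebraMap Γ(Y, V) Γ(X, U)))) := by
  letI a0 : Algebra Γ(Y, V) Γ(X, U) := (f.appLE V U hUV).hom.toAlgebra
  letI i1 : Algebra Γ(X, U) (X.presheaf.stalk x) :=
    TopCat.Presheaf.algebra_section_stalk X.presheaf (U := U) ⟨x, hx⟩
  haveI i4 : IsLocalization.AtPrime (X.presheaf.stalk x) (hU.primeIdealOf ⟨x, hx⟩).asIdeal :=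
    hU.isLocalization_stalk ⟨x, hx⟩
  have hg1 : ∀ r : Γ(X, U), algebraMap Γ(X, U) (X.presheaf.stalk x) r =
      X.presheaf.germ U x hx r := fun r => rfl
  have hyV : f x ∈ V := hUV hx
  -- the ring isomorphism
  let θ : X.presheaf.stalk x ≃ₐ[Γ(X, U)] Localization.AtPrime (hU.primeIdealOf ⟨x, hx⟩).asIdeal :=
    IsLocalization.algEquiv (hU.primeIdealOf ⟨x, hx⟩).asIdeal.primeCompl _ _
  letI mLW : Module (X.presheaf.stalk x)
      (LocalizedModule (hU.primeIdealOf ⟨x, hx⟩).asIdeal.primeCompl Γ(X, U)) :=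
    Module.compHom _ (θ : X.presheaf.stalk x →+*
      Localization.AtPrime (hU.primeIdealOf ⟨x, hx⟩).asIdeal)
  haveI tBLW : IsScalarTower Γ(X, U) (X.presheaf.stalk x)
      (LocalizedModule (hU.primeIdealOf ⟨x, hx⟩).asIdeal.primeCompl Γ(X, U)) := by
    refine IsScalarTower.of_algebraMap_smul fun b w => ?_
    change θ (algebraMap _ _ b) • w = b • w
    rw [θ.commutes, algebraMap_smul]
  let g₀ : X.presheaf.stalk x ≃ₗ[Γ(X, U)]
      LocalizedModule (hU.primeIdealOf ⟨x, hx⟩).asIdeal.primeCompl Γ(X, U) :=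
    IsLocalizedModule.linearEquiv (hU.primeIdealOf ⟨x, hx⟩).asIdeal.primeCompl
      (Algebra.linearMap Γ(X, U) (X.presheaf.stalk x))
      (LocalizedModule.mkLinearMap (hU.primeIdealOf ⟨x, hx⟩).asIdeal.primeCompl Γ(X, U))
  let g₁ : X.presheaf.stalk x ≃ₗ[X.presheaf.stalk x]
      LocalizedModule (hU.primeIdealOf ⟨x, hx⟩).asIdeal.primeCompl Γ(X, U) :=
    LinearEquiv.extendScalarsOfIsLocalization (hU.primeIdealOf ⟨x, hx⟩).asIdeal.primeCompl
      (X.presheaf.stalk x) g₀
  refine cpq_iff_of_equiv n θ.toRingEquiv g₁.toAddEquiv (fun l w => g₁.map_smul l w) _ _ ?_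
  -- the ideals
  letI aBB' : Algebra Γ(Y, V) (Y.presheaf.stalk (f x)) :=
    TopCat.Presheaf.algebra_section_stalk Y.presheaf (U := V) ⟨f x, hyV⟩
  haveI locB' : IsLocalization.AtPrime (Y.presheaf.stalk (f x))
      (hV.primeIdealOf ⟨f x, hyV⟩).asIdeal := hV.isLocalization_stalk ⟨f x, hyV⟩
  have hq : (hU.primeIdealOf ⟨x, hx⟩).asIdeal.comap (algebraMap Γ(Y, V) Γ(X, U)) =
      (hV.primeIdealOf ⟨f x, hyV⟩).asIdeal :=
    congrArg PrimeSpectrum.asIdeal (IsAffineOpen.comap_primeIdealOf_appLE V hV U hU hUV hx)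
  have hmax : IsLocalRing.maximalIdeal (Y.presheaf.stalk (f.base x)) =
      Ideal.map (algebraMap Γ(Y, V) (Y.presheaf.stalk (f x)))
        (hV.primeIdealOf ⟨f x, hyV⟩).asIdeal :=
    (IsLocalization.AtPrime.map_eq_maximalIdeal (hV.primeIdealOf ⟨f x, hyV⟩).asIdeal
      (Y.presheaf.stalk (f x))).symm
  rw [hmax, hq, Ideal.map_map, Ideal.map_map]
  congr 1
  ext a
  simp only [RingHom.comp_apply]
  have e1 : algebraMap Γ(Y, V) (Y.presheaf.stalk (f x)) a = Y.presheaf.germ V (f x) hyV a := rfl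
  rw [e1, ← germ_appLE f hUV x hx a, ← hg1]
  change θ (algebraMap Γ(X, U) (X.presheaf.stalk x) (algebraMap Γ(Y, V) Γ(X, U) a)) = _
  rw [θ.commutes, ← IsScalarTower.algebraMap_apply]

omit hU hV hUV in
/-- **openness of the locus where `f` is flat with fibre of codepth at most `n`.** -/
theorem isOpen_flat_and_QXcpRing [LocallyOfFinitePresentation f] (n : ℕ) :
    IsOpen {x : X | (f.stalkMap x).hom.Flat ∧ QXcpRing f n x} := by
  refine isOpen_iff_forall_mem_open.mpr fun x hx ↦ ?_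
  obtain ⟨_, ⟨V, hV, rfl⟩, hxV, -⟩ :=
    Y.isBasis_affineOpens.exists_subset_of_mem_open (Set.mem_univ (f x)) isOpen_univ
  obtain ⟨_, ⟨U, hU, rfl⟩, hxU, hUV⟩ :=
    X.isBasis_affineOpens.exists_subset_of_mem_open hxV (V.2.preimage f.continuous)
  letI a0 : Algebra Γ(Y, V) Γ(X, U) := (f.appLE V U hUV).hom.toAlgebra
  haveI : Algebra.FinitePresentation Γ(Y, V) Γ(X, U) := f.finitePresentation_appLE hV hU hUV
  have hfl := (flat_stalkMap_iff V hV U hU hUV hxU).mp hx.1
  have hcm := (qxcpring_iff_chart f hU hV hUV n x hxU).mp hx.2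
  obtain ⟨c, hc, hall⟩ := RM_cp Γ(Y, V) Γ(X, U) Γ(X, U) (hU.primeIdealOf ⟨x, hxU⟩).asIdeal n
    hfl hcm
  refine ⟨X.basicOpen c, ?_, (X.basicOpen c).2, ?_⟩
  · intro y hy
    have hyU : y ∈ U := X.basicOpen_le c hy
    have h3 := hall _ ((mem_basicOpen_iff_notMem_primeIdealOf hU y hyU c).mp hy)
    exact ⟨(flat_stalkMap_iff V hV U hU hUV hyU).mpr h3.1,
      (qxcpring_iff_chart f hU hV hUV n y hyU).mpr h3.2⟩
  · exact (mem_basicOpen_iff_notMem_primeIdealOf hU x hxU c).mpr hc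

omit hU hV hUV in
/-- pointwise form on the total space. -/
theorem isOpen_flat_and_fibre_cp [LocallyOfFinitePresentation f] (n : ℕ) :
    IsOpen {x : X | (f.stalkMap x).hom.Flat ∧
      CP n ((f.fiber (f.base x)).presheaf.stalk (f.asFiber x))
        ((f.fiber (f.base x)).presheaf.stalk (f.asFiber x))} := by
  have h := isOpen_flat_and_QXcpRing f n
  convert h using 1
  ext x
  simp only [Set.mem_setOf_eq]
  rw [fibre_iff_cp_ring f n (f.base x) (f.asFiber x)]
  have := f.fiberι_asFiber x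
  rw [this]

end Sch

end Groth.Agent.Lib.Helper14.CMMod
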