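import Mathlib
import Groth.Agent.Lib.Helper14.CMMod.Main
import Groth.Agent.Lib.Helper14.CMMod.Seq

/-!
# Openness of the locus where given elements form a weakly regular sequence on the fibre module:
ring level (helper14)
-/

set_option autoImplicit false
set_option linter.style.haveILetI false
set_option linter.unusedSectionVars false
universe u

open IsLocalRing TensorProduct RingTheory.Sequence MvPolynomial

namespace Groth.Agent.Lib.Helper14.CMMod

open Groth.Agent.Lib.Helper14.LCF Groth.Agent.Lib.Helper14.FlatOpen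

section General

/-- the variables are weakly regular on `A[X] / p A[X]`. -/
theorem isWeaklyRegular_X_quot (A : Type u) [CommRing A] (r : ℕ) (p : Ideal A) :
    IsWeaklyRegular (MvPolynomial (Fin r) A ⧸ (Ideal.map C p : Ideal (MvPolynomial (Fin r) A)))
      (List.ofFn fun i : Fin r => (X i : MvPolynomial (Fin r) A)) := by
  have h := isWeaklyRegular_X (A ⧸ p) r
  let e := MvPolynomial.quotientEquivQuotientMvPolynomial (σ := Fin r) p
  refine (AddEquiv.isWeaklyRegular_congr (e := e.toRingEquiv.toAddEquiv) ?_).1 h
  rw [List.ofFn_eq_map, List.ofFn_eq_map, List.forall₂_map_left_iff, List.forall₂_map_right_iff,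
    List.forall₂_same]
  intro i _ x
  change e (X i • x) = (X i : MvPolynomial (Fin r) A) • e x
  have h1 : e (X i) = Ideal.Quotient.mk _ (X i) := by
    simp [e, MvPolynomial.quotientEquivQuotientMvPolynomial]
  rw [smul_eq_mul, map_mul, h1]
  rfl

theorem isWeaklyRegular_of_subsingleton {R : Type*} [CommRing R] {M : Type*} [AddCommGroup M]
    [Module R M] [Subsingleton M] (rs : List R) : IsWeaklyRegular M rs :=
  ⟨fun _ _ => Function.injective_of_subsingleton _⟩

/-- after a unit the rest of the sequence does not matter. -/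
theorem isWeaklyRegular_append_unit {R : Type*} [CommRing R] {M : Type*} [AddCommGroup M]
    [Module R M] (rs₁ : List R) (u : R) (hu : IsUnit u) (rs₂ : List R)
    (h : IsWeaklyRegular M rs₁) : IsWeaklyRegular M (rs₁ ++ u :: rs₂) := by
  rw [isWeaklyRegular_append_iff]
  refine ⟨h, ?_⟩
  rw [isWeaklyRegular_cons_iff]
  refine ⟨hu.isSMulRegular _, ?_⟩
  haveI : Subsingleton (QuotSMulTop u (M ⧸ (Ideal.ofList rs₁ • ⊤ : Submodule R M))) := by
    rw [Submodule.Quotient.subsingleton_iff, eq_top_iff]
    intro m _
    obtain ⟨v, rfl⟩ := hu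
    rw [Submodule.mem_smul_pointwise_iff_exists]
    exact ⟨(↑v⁻¹ : R) • m, Submodule.mem_top, by rw [smul_smul, Units.mul_inv, one_smul]⟩
  exact isWeaklyRegular_of_subsingleton _

theorem exists_split_list {B : Type*} [CommRing B] (Q : Ideal B) (bs : List B) :
    ∃ pre : List B, (∀ b ∈ pre, b ∈ Q) ∧
      (bs = pre ∨ ∃ (u : B) (rest : List B), u ∉ Q ∧ bs = pre ++ u :: rest) := by
  induction bs with
  | nil => exact ⟨[], by simp, Or.inl rfl⟩
  | cons b bs ih =>
    by_cases hb : b ∈ Q
    · obtain ⟨pre, hpre, h⟩ := ih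
      refine ⟨b :: pre, ?_, ?_⟩
      · intro x hx
        rcases List.mem_cons.1 hx with rfl | hx
        · exact hb
        · exact hpre x hx
      · rcases h with h | ⟨u, rest, hu, h⟩
        · exact Or.inl (by rw [h])
        · exact Or.inr ⟨u, rest, hu, by rw [h]; rfl⟩
    · exact ⟨[], by simp, Or.inr ⟨b, bs, hb, rfl⟩⟩

end General

section Converse

variable (A : Type u) {B : Type u} [CommRing A] [CommRing B] [Algebra A B] {r : ℕ}
  (gs : Fin r → B)

set_option maxHeartbeats 1600000 in
/-- if `W` is flat over `A[X₁,…,X_r]` (with `Xᵢ` acting as `gs i`), then the `gs i` form a weakly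
regular sequence on every fibre `W / p W`. -/
theorem isWeaklyRegular_fibre_of_flat_mvPolynomial (L W : Type u) [CommRing L] [Algebra B L]
    [Algebra A L] [IsScalarTower A B L] [AddCommGroup W] [Module L W] [Module B W]
    [IsScalarTower B L W]
    (h : letI := mvPolyModule A gs W; Module.Flat (MvPolynomial (Fin r) A) W) (p : Ideal A) :
    IsWeaklyRegular (W ⧸ (p.map (algebraMap A L)) • (⊤ : Submodule L W))
      (List.ofFn fun i => algebraMap B L (gs i)) := by
  letI aPB := mvPolyAlgebra A gs
  haveI tAPB := mvPolyAlgebra_isScalarTower A gs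
  letI mPW := mvPolyModule A gs W
  haveI tPBW : IsScalarTower (MvPolynomial (Fin r) A) B W :=
    IsScalarTower.of_algebraMap_smul fun r w => rfl
  letI aPL : Algebra (MvPolynomial (Fin r) A) L :=
    ((algebraMap B L).comp (algebraMap (MvPolynomial (Fin r) A) B)).toAlgebra
  haveI tPBL : IsScalarTower (MvPolynomial (Fin r) A) B L :=
    IsScalarTower.of_algebraMap_eq fun x => rfl
  haveI tPLW : IsScalarTower (MvPolynomial (Fin r) A) L W := by
    refine IsScalarTower.of_algebraMap_smul fun x w => ?_
    change algebraMap B L (algebraMap (MvPolynomial (Fin r) A) B x) • w = x • w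
    rw [algebraMap_smul, algebraMap_smul]
  haveI := h
  have hX : ∀ i, algebraMap (MvPolynomial (Fin r) A) B (X i) = gs i := fun i => by
    change MvPolynomial.aeval gs (X i) = _
    rw [MvPolynomial.aeval_X]
  have hC : ∀ a : A, algebraMap (MvPolynomial (Fin r) A) B (C a) = algebraMap A B a := fun a => by
    change MvPolynomial.aeval gs (C a) = _
    rw [MvPolynomial.aeval_C]
  have h1 := (isWeaklyRegular_X_quot A r p).isWeaklyRegular_lTensor (M₂ := W)
  have h2 : IsWeaklyRegular
      (W ⧸ (Ideal.map C p : Ideal (MvPolynomial (Fin r) A)) •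
        (⊤ : Submodule (MvPolynomial (Fin r) A) W))
      (List.ofFn fun i : Fin r => (X i : MvPolynomial (Fin r) A)) :=
    ((TensorProduct.tensorQuotEquivQuotSMul W
      (Ideal.map C p : Ideal (MvPolynomial (Fin r) A))).isWeaklyRegular_congr _).1 h1
  have hmap : Ideal.map (algebraMap (MvPolynomial (Fin r) A) L)
      (Ideal.map C p : Ideal (MvPolynomial (Fin r) A)) = p.map (algebraMap A L) := by
    rw [Ideal.map_map]
    congr 1
    ext a
    change algebraMap B L (algebraMap (MvPolynomial (Fin r) A) B (C a)) = _
    rw [hC, ← IsScalarTower.algebraMap_apply]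
  have heq : (Ideal.map C p : Ideal (MvPolynomial (Fin r) A)) •
      (⊤ : Submodule (MvPolynomial (Fin r) A) W) =
      ((p.map (algebraMap A L)) • (⊤ : Submodule L W)).restrictScalars
        (MvPolynomial (Fin r) A) := by
    have h1 := Ideal.smul_restrictScalars (S := L)
      (Ideal.map C p : Ideal (MvPolynomial (Fin r) A)) (⊤ : Submodule L W)
    rw [Submodule.restrictScalars_top] at h1
    rw [← h1, hmap]
  let e0 : (W ⧸ (Ideal.map C p : Ideal (MvPolynomial (Fin r) A)) •
      (⊤ : Submodule (MvPolynomial (Fin r) A) W)) ≃ₗ[MvPolynomial (Fin r) A]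
      (W ⧸ (p.map (algebraMap A L)) • (⊤ : Submodule L W)) :=
    (Submodule.quotEquivOfEq _ _ heq).trans
      (Submodule.Quotient.restrictScalarsEquiv (MvPolynomial (Fin r) A) _)
  have h3 := (e0.isWeaklyRegular_congr _).1 h2
  have h4 := (isWeaklyRegular_map_algebraMap_iff L _ _).2 h3
  rw [List.map_ofFn] at h4
  have h5 : ((algebraMap (MvPolynomial (Fin r) A) L) ∘ fun i : Fin r =>
      (X i : MvPolynomial (Fin r) A)) = fun i => algebraMap B L (gs i) := by
    ext i
    change algebraMap B L (algebraMap (MvPolynomial (Fin r) A) B (X i)) = _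
    rw [hX]
  rwa [h5] at h4

end Converse

section RS

variable (A B : Type u) [CommRing A] [CommRing B] [Algebra A B] [Algebra.FinitePresentation A B]
  (N : Type u) [AddCommGroup N] [Module B N] [Module.FinitePresentation B N] [Module A N]
  [IsScalarTower A B N] (Q : Ideal B) [Q.IsPrime]

set_option maxHeartbeats 3200000 in
/-- **openness of the locus where a given sequence is weakly regular on the fibre module**, at a
point of flatness. -/
theorem RS (bs : List B)
    (hflat : Module.Flat A (LocalizedModule Q.primeCompl N))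
    (hC : IsWeaklyRegular (LocalizedModule Q.primeCompl N ⧸
        (Ideal.map (algebraMap A (Localization.AtPrime Q)) (Q.comap (algebraMap A B))) •
          (⊤ : Submodule (Localization.AtPrime Q) (LocalizedModule Q.primeCompl N)))
      (bs.map (algebraMap B (Localization.AtPrime Q)))) :
    ∃ c : B, c ∉ Q ∧ ∀ (Q' : Ideal B) [Q'.IsPrime], c ∉ Q' →
      IsWeaklyRegular (LocalizedModule Q'.primeCompl N ⧸
        (Ideal.map (algebraMap A (Localization.AtPrime Q')) (Q'.comap (algebraMap A B))) •
          (⊤ : Submodule (Localization.AtPrime Q') (LocalizedModule Q'.primeCompl N)))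
      (bs.map (algebraMap B (Localization.AtPrime Q'))) := by
  haveI : Module.Finite B N := inferInstance
  haveI := hflat
  have hCB : IsWeaklyRegular (LocalizedModule Q.primeCompl N ⧸
        (Ideal.map (algebraMap A (Localization.AtPrime Q)) (Q.comap (algebraMap A B))) •
          (⊤ : Submodule (Localization.AtPrime Q) (LocalizedModule Q.primeCompl N))) bs :=
    (isWeaklyRegular_map_algebraMap_iff (Localization.AtPrime Q) _ bs).1 hC
  obtain ⟨g, hgQ, hsplit⟩ := exists_split_list Q bs
  have hgreg : IsWeaklyRegular (LocalizedModule Q.primeCompl N ⧸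
        (Ideal.map (algebraMap A (Localization.AtPrime Q)) (Q.comap (algebraMap A B))) •
          (⊤ : Submodule (Localization.AtPrime Q) (LocalizedModule Q.primeCompl N))) g := by
    rcases hsplit with h | ⟨u, rest, hu, h⟩
    · rw [← h]; exact hCB
    · rw [h, isWeaklyRegular_append_iff] at hCB
      exact hCB.1
  have hgs : ∀ i, g.get i ∈ Q := fun i => hgQ _ (List.get_mem _ _)
  have hreg : ∀ (k : Fin g.length) (w : LocalizedModule Q.primeCompl N),
      g.get k • w ∈ (Ideal.map (algebraMap A B) (Q.comap (algebraMap A B)) ⊔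
        Ideal.span (g.get '' {j : Fin g.length | j < k})) •
          (⊤ : Submodule B (LocalizedModule Q.primeCompl N)) →
      w ∈ (Ideal.map (algebraMap A B) (Q.comap (algebraMap A B)) ⊔
        Ideal.span (g.get '' {j : Fin g.length | j < k})) •
          (⊤ : Submodule B (LocalizedModule Q.primeCompl N)) := by
    intro k w hw
    rw [image_get_lt'] at hw ⊢
    rw [mem_sup_smul_iff] at hw ⊢
    have h2 := (isWeaklyRegular_iff _ _).mp hgreg k k.2
    rw [isSMulRegular_quotient_iff_mem_of_smul_mem] at h2
    refine h2 _ ?_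
    rw [← Submodule.Quotient.mk_smul]
    exact hw
  have h0 := flat_mvPolynomial_of_regular_fibre (A := A) Q g.get
    (LocalizedModule.mkLinearMap Q.primeCompl N) hgs hreg
  letI aA₂ := mvPolyAlgebra A g.get
  haveI tA₂ := mvPolyAlgebra_isScalarTower A g.get
  haveI fpA₂ := mvPolyAlgebra_finitePresentation A g.get
  letI mRN := mvPolyModule A g.get N
  haveI tA₂N : IsScalarTower (MvPolynomial (Fin g.length) A) B N :=
    IsScalarTower.of_algebraMap_smul fun r n => rfl
  have heq : ∀ T : Submonoid B, mvPolyModule A g.get (LocalizedModule T N) =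
      (inferInstance : Module (MvPolynomial (Fin g.length) A) (LocalizedModule T N)) := by
    intro T
    refine Module.ext' _ _ fun r w => ?_
    exact algebraMap_smul B r w
  rw [heq] at h0
  obtain ⟨c₁, hc₁, hfl⟩ := exists_flatOnD (A := MvPolynomial (Fin g.length) A) (S := B) (N := N)
    Q h0
  -- the prefix is weakly regular on nearby fibres
  have hpre : ∀ (Q' : Ideal B) [Q'.IsPrime], c₁ ∉ Q' →
      IsWeaklyRegular (LocalizedModule Q'.primeCompl N ⧸
        (Ideal.map (algebraMap A (Localization.AtPrime Q')) (Q'.comap (algebraMap A B))) •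
          (⊤ : Submodule (Localization.AtPrime Q') (LocalizedModule Q'.primeCompl N)))
      (g.map (algebraMap B (Localization.AtPrime Q'))) := by
    intro Q' _ hc₁'
    have hflA₂ : Module.Flat (MvPolynomial (Fin g.length) A) (LocalizedModule Q'.primeCompl N) :=
      hfl Q' hc₁'
    have h1 := isWeaklyRegular_fibre_of_flat_mvPolynomial A g.get (Localization.AtPrime Q')
      (LocalizedModule Q'.primeCompl N) (by rw [heq]; exact hflA₂) (Q'.comap (algebraMap A B))
    have h2 : (List.ofFn fun i => algebraMap B (Localization.AtPrime Q') (g.get i)) =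
        g.map (algebraMap B (Localization.AtPrime Q')) := by
      have := List.map_ofFn (f := g.get) (g := algebraMap B (Localization.AtPrime Q'))
      rw [List.ofFn_get] at this
      rw [this]
      rfl
    rw [h2] at h1
    exact h1
  rcases hsplit with h | ⟨u, rest, hu, h⟩
  · refine ⟨c₁, hc₁, ?_⟩
    intro Q' _ hcQ'
    rw [h]
    exact hpre Q' hcQ'
  · refine ⟨c₁ * u, fun h => (Ideal.IsPrime.mem_or_mem inferInstance h).elim hc₁ hu, ?_⟩
    intro Q' _ hcQ'
    have hc₁' : c₁ ∉ Q' := fun h => hcQ' (Ideal.mul_mem_right _ _ h)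
    have hu' : u ∉ Q' := fun h => hcQ' (Ideal.mul_mem_left _ _ h)
    rw [h, List.map_append, List.map_cons]
    refine isWeaklyRegular_append_unit _ _ ?_ _ (hpre Q' hc₁')
    exact IsLocalization.map_units (Localization.AtPrime Q') (⟨u, hu'⟩ : Q'.primeCompl)

end RS

end Groth.Agent.Lib.Helper14.CMMod
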