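import Mathlib
import Groth.Agent.Lib.Helper14.CMMod.RegSeqOpen
import Groth.Agent.Lib.Helper14.CMMod.Sch

/-!
# Openness of the locus where given sections form a weakly regular sequence on the fibre module:
schemes (helper14)
-/

set_option autoImplicit false
set_option linter.style.haveILetI false
set_option linter.unusedSectionVars false
universe u

open IsLocalRing TensorProduct CategoryTheory AlgebraicGeometry RingTheory.Sequence

namespace Groth.Agent.Lib.Helper14.CMMod

section Abstract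

/-- the semilinear isomorphism of quotients induced by a semilinear isomorphism. -/
theorem exists_quot_addEquiv {L L' : Type u} [CommRing L] [CommRing L']
    (θ : L ≃+* L') {W W' : Type u} [AddCommGroup W] [Module L W]
    [AddCommGroup W'] [Module L' W'] (g : W ≃+ W') (hg : ∀ l w, g (l • w) = θ l • g w)
    (K : Ideal L) (K' : Ideal L') (hK : K.map (θ : L →+* L') = K') :
    ∃ e : (W ⧸ K • (⊤ : Submodule L W)) ≃+ (W' ⧸ K' • (⊤ : Submodule L' W')),
      ∀ (l : L) (m : W ⧸ K • (⊤ : Submodule L W)), e (l • m) = θ l • e m := by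
  letI aLL' : Algebra L L' := (θ : L →+* L').toAlgebra
  letI mLW' : Module L W' := Module.compHom W' (θ : L →+* L')
  haveI tLL'W' : IsScalarTower L L' W' := IsScalarTower.of_algebraMap_smul fun r m => rfl
  let ĝ : W ≃ₗ[L] W' := { g with map_smul' := fun l w => hg l w }
  have h1 : (K • (⊤ : Submodule L W)).map ĝ.toLinearMap =
      (K' • (⊤ : Submodule L' W')).restrictScalars L := by
    rw [Submodule.map_smul'', Submodule.map_top, LinearMap.range_eq_top.2 ĝ.surjective]
    have h2 := Ideal.smul_restrictScalars (S := L') K (⊤ : Submodule L' W')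
    rw [Submodule.restrictScalars_top] at h2
    rw [← h2]
    congr 2
  let e : (W ⧸ K • (⊤ : Submodule L W)) ≃ₗ[L] (W' ⧸ K' • (⊤ : Submodule L' W')) :=
    (Submodule.Quotient.equiv _ _ ĝ h1).trans
      (Submodule.Quotient.restrictScalarsEquiv L (K' • (⊤ : Submodule L' W')))
  refine ⟨e.toAddEquiv, fun l m => ?_⟩
  change e (l • m) = _
  rw [e.map_smul]
  exact (algebraMap_smul L' l (e m)).symm

end Abstract

section Sch

open Groth.Agent.Lib.Helper3 Groth.Agent.Lib.Helper1.FlatAffine Groth.Agent.Lib.Helper17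
  Groth.Agent.Lib.Helper14.FlatOpen

variable {X Y : Scheme.{u}} (f : X ⟶ Y) (F : X.Modules)

variable {U : X.Opens} {V : Y.Opens} (hU : IsAffineOpen U) (hV : IsAffineOpen V)
  (hUV : U ≤ f ⁻¹ᵁ V)

include hU hV in
set_option maxHeartbeats 1600000 in
/-- weak regularity on the fibre module, on an affine chart. -/
theorem regSeq_iff_chart [F.IsQuasicoherent] (bs : List Γ(X, U)) (x : X) (hx : x ∈ U) :
    letI a0 : Algebra Γ(Y, V) Γ(X, U) := (f.appLE V U hUV).hom.toAlgebra
    IsWeaklyRegular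
        (↑(F.presheaf.stalk x) ⧸ (Ideal.map (f.stalkMap x).hom
          (IsLocalRing.maximalIdeal ↑(Y.presheaf.stalk (f x))) •
          (⊤ : Submodule ↑(X.presheaf.stalk x) ↑(F.presheaf.stalk x))))
        (bs.map (X.presheaf.germ U x hx)) ↔
      IsWeaklyRegular
        (LocalizedModule (hU.primeIdealOf ⟨x, hx⟩).asIdeal.primeCompl Γ(F, U) ⧸
          (Ideal.map (algebraMap Γ(Y, V) (Localization.AtPrime (hU.primeIdealOf ⟨x, hx⟩).asIdeal))
          ((hU.primeIdealOf ⟨x, hx⟩).asIdeal.comap (algebraMap Γ(Y, V) Γ(X, U)))) •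
          (⊤ : Submodule (Localization.AtPrime (hU.primeIdealOf ⟨x, hx⟩).asIdeal)
            (LocalizedModule (hU.primeIdealOf ⟨x, hx⟩).asIdeal.primeCompl Γ(F, U))))
        (bs.map (algebraMap Γ(X, U)
          (Localization.AtPrime (hU.primeIdealOf ⟨x, hx⟩).asIdeal))) := by
  letI a0 : Algebra Γ(Y, V) Γ(X, U) := (f.appLE V U hUV).hom.toAlgebra
  obtain ⟨i1, i2, i3, i4, gF, hg1, hg2, hg3⟩ := QS.exists_isLocalizedModule hU F x hx
  have hyV : f x ∈ V := hUV hx
  -- the ring isomorphism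
  let θ : X.presheaf.stalk x ≃ₐ[Γ(X, U)] Localization.AtPrime (hU.primeIdealOf ⟨x, hx⟩).asIdeal :=
    IsLocalization.algEquiv (hU.primeIdealOf ⟨x, hx⟩).asIdeal.primeCompl _ _
  letI mLW : Module (X.presheaf.stalk x)
      (LocalizedModule (hU.primeIdealOf ⟨x, hx⟩).asIdeal.primeCompl Γ(F, U)) :=
    Module.compHom _ (θ : X.presheaf.stalk x →+*
      Localization.AtPrime (hU.primeIdealOf ⟨x, hx⟩).asIdeal)
  haveI tBLW : IsScalarTower Γ(X, U) (X.presheaf.stalk x)
      (LocalizedModule (hU.primeIdealOf ⟨x, hx⟩).asIdeal.primeCompl Γ(F, U)) := by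
    refine IsScalarTower.of_algebraMap_smul fun b w => ?_
    change θ (algebraMap _ _ b) • w = b • w
    rw [θ.commutes, algebraMap_smul]
  let g₀ : F.presheaf.stalk x ≃ₗ[Γ(X, U)]
      LocalizedModule (hU.primeIdealOf ⟨x, hx⟩).asIdeal.primeCompl Γ(F, U) :=
    IsLocalizedModule.linearEquiv (hU.primeIdealOf ⟨x, hx⟩).asIdeal.primeCompl gF
      (LocalizedModule.mkLinearMap (hU.primeIdealOf ⟨x, hx⟩).asIdeal.primeCompl Γ(F, U))
  let g₁ : F.presheaf.stalk x ≃ₗ[X.presheaf.stalk x]
      LocalizedModule (hU.primeIdealOf ⟨x, hx⟩).asIdeal.primeCompl Γ(F, U) :=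
    LinearEquiv.extendScalarsOfIsLocalization (hU.primeIdealOf ⟨x, hx⟩).asIdeal.primeCompl
      (X.presheaf.stalk x) g₀
  -- the ideals
  have hideal : Ideal.map (θ.toRingEquiv : X.presheaf.stalk x →+*
      Localization.AtPrime (hU.primeIdealOf ⟨x, hx⟩).asIdeal)
      (Ideal.map (f.stalkMap x).hom (IsLocalRing.maximalIdeal ↑(Y.presheaf.stalk (f x)))) =
      Ideal.map (algebraMap Γ(Y, V) (Localization.AtPrime (hU.primeIdealOf ⟨x, hx⟩).asIdeal))
          ((hU.primeIdealOf ⟨x, hx⟩).asIdeal.comap (algebraMap Γ(Y, V) Γ(X, U))) := by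
    letI aBB' : Algebra Γ(Y, V) (Y.presheaf.stalk (f x)) :=
      TopCat.Presheaf.algebra_section_stalk Y.presheaf (U := V) ⟨f x, hyV⟩
    haveI locB' : IsLocalization.AtPrime (Y.presheaf.stalk (f x))
        (hV.primeIdealOf ⟨f x, hyV⟩).asIdeal := hV.isLocalization_stalk ⟨f x, hyV⟩
    have hq : (hU.primeIdealOf ⟨x, hx⟩).asIdeal.comap (algebraMap Γ(Y, V) Γ(X, U)) =
        (hV.primeIdealOf ⟨f x, hyV⟩).asIdeal :=
      congrArg PrimeSpectrum.asIdeal (IsAffineOpen.comap_primeIdealOf_appLE V hV U hU hUV hx)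
    have hmax : IsLocalRing.maximalIdeal (Y.presheaf.stalk (f x)) =
        Ideal.map (algebraMap Γ(Y, V) (Y.presheaf.stalk (f x)))
          (hV.primeIdealOf ⟨f x, hyV⟩).asIdeal :=
      (IsLocalization.AtPrime.map_eq_maximalIdeal (hV.primeIdealOf ⟨f x, hyV⟩).asIdeal
        (Y.presheaf.stalk (f x))).symm
    rw [hmax, hq, Ideal.map_map, Ideal.map_map]
    congr 1
    ext a
    simp only [RingHom.comp_apply]
    have e1 : algebraMap Γ(Y, V) (Y.presheaf.stalk (f x)) a = Y.presheaf.germ V (f x) hyV a := rfl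
    rw [e1, ← germ_appLE f hUV x hx a, ← hg1]
    change θ (algebraMap Γ(X, U) (X.presheaf.stalk x) (algebraMap Γ(Y, V) Γ(X, U) a)) = _
    rw [θ.commutes, ← IsScalarTower.algebraMap_apply]
  obtain ⟨e, he⟩ := exists_quot_addEquiv θ.toRingEquiv g₁.toAddEquiv
    (fun l w => g₁.map_smul l w) _ _ hideal
  refine AddEquiv.isWeaklyRegular_congr (e := e) ?_
  rw [List.forall₂_map_left_iff, List.forall₂_map_right_iff, List.forall₂_same]
  intro b _ m
  rw [he, ← hg1]
  congr 1
  exact θ.commutes b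

omit hU hV hUV in
/-- **openness of the locus where given global sections form a weakly regular sequence on the
fibre module.** -/
theorem isOpen_regSeq [LocallyOfFinitePresentation f]
    [SheafOfModules.IsFinitePresentation (R := X.ringCatSheaf) F]
    (hflat : FlatMod.IsFlatOver f F) (n : ℕ) (g : Fin n → Γ(X, ⊤)) :
    IsOpen {x : X |
      IsWeaklyRegular
        (↑(F.presheaf.stalk x) ⧸ (Ideal.map (f.stalkMap x).hom
          (IsLocalRing.maximalIdeal ↑(Y.presheaf.stalk (f x))) •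
          (⊤ : Submodule ↑(X.presheaf.stalk x) ↑(F.presheaf.stalk x))))
        (List.ofFn fun i => (X.presheaf.germ ⊤ x trivial) (g i))} := by
  refine isOpen_iff_forall_mem_open.mpr fun x hx ↦ ?_
  obtain ⟨_, ⟨V, hV, rfl⟩, hxV, -⟩ :=
    Y.isBasis_affineOpens.exists_subset_of_mem_open (Set.mem_univ (f x)) isOpen_univ
  obtain ⟨_, ⟨U, hU, rfl⟩, hxU, hUV⟩ :=
    X.isBasis_affineOpens.exists_subset_of_mem_open hxV (V.2.preimage f.continuous)
  letI a0 : Algebra Γ(Y, V) Γ(X, U) := (f.appLE V U hUV).hom.toAlgebra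
  letI a1 : Module Γ(Y, V) Γ(F, U) := Module.compHom _ (f.appLE V U hUV).hom
  haveI a2 : IsScalarTower Γ(Y, V) Γ(X, U) Γ(F, U) :=
    IsScalarTower.of_algebraMap_smul fun r n => rfl
  haveI : Algebra.FinitePresentation Γ(Y, V) Γ(X, U) := f.finitePresentation_appLE hV hU hUV
  haveI : Module.FinitePresentation Γ(X, U) Γ(F, U) := QCProps.finitePresentation_sections F hU
  set bs : List Γ(X, U) := List.ofFn fun i => X.presheaf.map (homOfLE le_top).op (g i) with hbs
  have hlist : ∀ (y : X) (hy : y ∈ U),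
      (List.ofFn fun i => (X.presheaf.germ ⊤ y trivial) (g i)) =
        bs.map (X.presheaf.germ U y hy) := by
    intro y hy
    rw [hbs, List.map_ofFn]
    congr 1
    ext i
    exact (TopCat.Presheaf.germ_res_apply X.presheaf (homOfLE le_top) y hy (g i)).symm
  have hfl := (isFlatOverAt_iff_localizedModule f F hU hV hUV x hxU).mp (hflat x)
  have hx' : IsWeaklyRegular
        (↑(F.presheaf.stalk x) ⧸ (Ideal.map (f.stalkMap x).hom
          (IsLocalRing.maximalIdeal ↑(Y.presheaf.stalk (f x))) •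
          (⊤ : Submodule ↑(X.presheaf.stalk x) ↑(F.presheaf.stalk x))))
        (List.ofFn fun i => (X.presheaf.germ ⊤ x trivial) (g i)) := hx
  rw [hlist x hxU] at hx'
  have hC := (regSeq_iff_chart f F hU hV hUV bs x hxU).mp hx'
  obtain ⟨c, hc, hall⟩ := RS Γ(Y, V) Γ(X, U) Γ(F, U) (hU.primeIdealOf ⟨x, hxU⟩).asIdeal bs
    hfl hC
  refine ⟨X.basicOpen c, ?_, (X.basicOpen c).2, ?_⟩
  · intro y hy
    have hyU : y ∈ U := X.basicOpen_le c hy
    have h3 := hall _ ((mem_basicOpen_iff_notMem_primeIdealOf hU y hyU c).mp hy)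
    show IsWeaklyRegular _ _
    rw [hlist y hyU]
    exact (regSeq_iff_chart f F hU hV hUV bs y hyU).mpr h3
  · exact (mem_basicOpen_iff_notMem_primeIdealOf hU x hxU c).mpr hc

end Sch

end Groth.Agent.Lib.Helper14.CMMod
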